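import Mathlib
import Cfsg.Agent.Lib.CentMaxNormal.Basic
import Cfsg.Agent.Lib.CyclicNorm.Basic
import Cfsg.Agent.S0205

/-!
Groups with trivial solvable radical in which every biprimary solvable nontrivial subgroup has a
maximal normaliser: first properties.
-/

set_option autoImplicit false
set_option linter.style.haveILetI false

open Subgroup

namespace CfsgLib.MaxNormalizer

variable {G : Type*} [Group G]

/-- At most two primes divide the order of `H`. -/
def Biprimary (H : Subgroup G) : Prop :=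
  ∃ p q : ℕ, p.Prime ∧ q.Prime ∧ ∀ r : ℕ, r.Prime → r ∣ Nat.card H → r = p ∨ r = q

theorem biprimary_of_card {H : Subgroup G} {p q i j : ℕ} (hp : p.Prime) (hq : q.Prime)
    (h : Nat.card H ∣ p ^ i * q ^ j) : Biprimary H :=
  ⟨p, q, hp, hq, fun r hr hrH => ((hr.dvd_mul).mp (hrH.trans h)).imp
    (fun e => (Nat.prime_dvd_prime_iff_eq hr hp).mp (hr.dvd_of_dvd_pow e))
    (fun e => (Nat.prime_dvd_prime_iff_eq hr hq).mp (hr.dvd_of_dvd_pow e))⟩

theorem biprimary_pGroup [Finite G] {p : ℕ} [hp : Fact p.Prime] {H : Subgroup G}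
    (h : IsPGroup p H) : Biprimary H := by
  obtain ⟨k, hk⟩ := IsPGroup.iff_card.mp h
  exact biprimary_of_card (j := 0) (i := k) hp.out hp.out (by simp [hk])

theorem isSolvable_pGroup [Finite G] {p : ℕ} [Fact p.Prime] {H : Subgroup G} (h : IsPGroup p H) :
    Group.IsSolvable H := by
  haveI := h.isNilpotent
  infer_instance

theorem isPGroup_zpowers {p k : ℕ} {u : G} (h : orderOf u = p ^ k) :
    IsPGroup p (zpowers u) := IsPGroup.of_card (by rw [Nat.card_zpowers, h])

theorem biprimary_zpowers {p q i j : ℕ} (hp : p.Prime) (hq : q.Prime) {z : G}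
    (h : orderOf z ∣ p ^ i * q ^ j) : Biprimary (zpowers z) :=
  biprimary_of_card hp hq (by rwa [Nat.card_zpowers])

theorem isSolvable_zpowers (z : G) : Group.IsSolvable (zpowers z) := by
  letI := IsCyclic.commGroup (α := zpowers z)
  infer_instance

theorem zpowers_ne_bot' {z : G} (h : z ≠ 1) : zpowers z ≠ ⊥ := by
  simpa [zpowers_eq_bot] using h

theorem mem_norm_zpowers {g u : G} (h : g * u * g⁻¹ ∈ zpowers u) [Finite G] :
    g ∈ normalizer (zpowers u : Set G) := by
  have : (zpowers u).map (MulAut.conj g).toMonoidHom = zpowers u := by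
    refine Subgroup.eq_of_le_of_card_ge ?_ ?_
    · rw [MonoidHom.map_zpowers, zpowers_le]; simpa using h
    · rw [card_map_of_injective (MulAut.conj g).injective]
  rw [mem_normalizer_iff]
  intro x
  conv_rhs => rw [← this]
  constructor
  · intro hx
    exact ⟨x, hx, by simp⟩
  · rintro ⟨y, hy, e⟩
    simp only [MulEquiv.coe_toMonoidHom, MulAut.conj_apply] at e
    rwa [← mul_left_cancel (mul_right_cancel e)]

theorem conj_mem_of_norm {g u v : G} (hg : g ∈ normalizer (zpowers u : Set G))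
    (hv : v ∈ zpowers u) : g * v * g⁻¹ ∈ zpowers u :=
  (mem_normalizer_iff.mp hg v).mp hv

/-- The normaliser of a cyclic group normalises all its subgroups. -/
theorem norm_zpowers_le_of_mem [Finite G] {y z : G} (hy : y ∈ zpowers z) :
    normalizer (zpowers z : Set G) ≤ normalizer (zpowers y : Set G) := by
  intro g hg
  obtain ⟨k, rfl⟩ := mem_zpowers_iff.mp hy
  obtain ⟨m, hm⟩ := mem_zpowers_iff.mp (conj_mem_of_norm hg (mem_zpowers z))
  refine mem_norm_zpowers (mem_zpowers_iff.mpr ⟨m, ?_⟩)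
  rw [← conj_zpow, ← hm, ← zpow_mul, ← zpow_mul, mul_comm]

theorem le_cent_singleton {H : Subgroup G} {a : G} :
    H ≤ centralizer ({a} : Set G) ↔ ∀ h ∈ H, Commute h a :=
  ⟨fun h x hx => mem_centralizer_singleton_iff.mp (h hx),
    fun h x hx => mem_centralizer_singleton_iff.mpr (h x hx)⟩

/-- If `S` normalises `X`, `x` normalises `S` and they meet trivially, `x` commutes with `S`. -/
theorem commute_of_disjoint {S X : Subgroup G} (hd : S ⊓ X = ⊥) {s x : G} (hs : s ∈ S) (hx : x ∈ X)
    (hsX : s ∈ normalizer (X : Set G)) (hxS : x ∈ normalizer (S : Set G)) : Commute s x := by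
  have h1 : s * x * s⁻¹ * x⁻¹ ∈ X := X.mul_mem ((mem_normalizer_iff.mp hsX x).mp hx) (X.inv_mem hx)
  have h2 : s * (x * s⁻¹ * x⁻¹) ∈ S :=
    S.mul_mem hs ((mem_normalizer_iff.mp hxS _).mp (S.inv_mem hs))
  have h3 : s * x * s⁻¹ * x⁻¹ ∈ S ⊓ X := ⟨by
    rw [show s * x * s⁻¹ * x⁻¹ = s * (x * s⁻¹ * x⁻¹) by group]
    exact h2, h1⟩
  rw [hd, mem_bot, mul_inv_eq_one, mul_inv_eq_iff_eq_mul] at h3
  exact h3

/-- The standing hypothesis on `G`. -/
structure Ctx (G : Type*) [Group G] : Prop where
  rad : ∀ H : Subgroup G, H.Normal → Group.IsSolvable H → H = ⊥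
  nonsolv : ¬ Group.IsSolvable G
  max : ∀ H : Subgroup G, H ≠ ⊥ → Group.IsSolvable H → Biprimary H →
    IsCoatom (normalizer (H : Set G))

namespace Ctx

variable (c : Ctx G)
include c

theorem norm_ne_top {L : Subgroup G} (h1 : L ≠ ⊥) (h2 : Group.IsSolvable L) :
    normalizer (L : Set G) ≠ ⊤ := fun e => h1 (c.rad L (normalizer_eq_top_iff.mp e) h2)

theorem eq_of_coatom {M L : Subgroup G} (hM : IsCoatom M) (hle : M ≤ normalizer (L : Set G))
    (h1 : L ≠ ⊥) (h2 : Group.IsSolvable L) : normalizer (L : Set G) = M :=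
  (hM.le_iff.mp hle).resolve_left (c.norm_ne_top h1 h2)

theorem not_normal_coatom {M : Subgroup G} (hM : IsCoatom M) (hs : Group.IsSolvable M)
    (h1 : M ≠ ⊥) : normalizer (M : Set G) = M :=
  c.eq_of_coatom hM le_normalizer h1 hs

theorem center_eq_bot : Subgroup.center G = ⊥ := c.rad _ inferInstance
  (Group.isSolvable_of_comm fun a b => Subtype.ext (mem_center_iff.mp b.2 a))

theorem cent_ne_top {a : G} (ha : a ≠ 1) : centralizer ({a} : Set G) ≠ ⊤ := fun e => ha <| by
  have : a ∈ Subgroup.center G := mem_center_iff.mpr fun g =>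
    mem_centralizer_singleton_iff.mp (e ▸ mem_top g)
  rwa [c.center_eq_bot, mem_bot] at this

variable [Finite G]

theorem max_zpowers {p q i j : ℕ} (hp : p.Prime) (hq : q.Prime) {z : G} (hz : z ≠ 1)
    (h : orderOf z ∣ p ^ i * q ^ j) : IsCoatom (normalizer (zpowers z : Set G)) :=
  c.max _ (zpowers_ne_bot' hz) (isSolvable_zpowers z) (biprimary_zpowers hp hq h)

theorem max_pPow {p i : ℕ} (hp : p.Prime) {z : G} (hz : z ≠ 1)
    (h : orderOf z = p ^ i) : IsCoatom (normalizer (zpowers z : Set G)) :=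
  c.max_zpowers (j := 0) hp hp hz (by simp [h]) (i := i)

theorem max_pGroup {p : ℕ} [Fact p.Prime] {H : Subgroup G} (hH : IsPGroup p H) (h1 : H ≠ ⊥) :
    IsCoatom (normalizer (H : Set G)) :=
  c.max H h1 (isSolvable_pGroup hH) (biprimary_pGroup hH)

theorem norm_of_mem {p q i j : ℕ} (hp : p.Prime) (hq : q.Prime) {y z : G}
    (h : orderOf z ∣ p ^ i * q ^ j) (hy : y ∈ zpowers z) (hy1 : y ≠ 1) :
    normalizer (zpowers y : Set G) = normalizer (zpowers z : Set G) := by
  have hz : z ≠ 1 := by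
    rintro rfl
    simp [mem_bot] at hy
    exact hy1 hy
  exact c.eq_of_coatom (c.max_zpowers hp hq hz h) (norm_zpowers_le_of_mem hy)
    (zpowers_ne_bot' hy1) (isSolvable_zpowers y)

/-- Commuting elements of coprime prime power orders have the same normaliser. -/
theorem norm_eq_of_commute {p q i j : ℕ} (hp : p.Prime) (hq : q.Prime) (hpq : p ≠ q) {u w : G}
    (hu : orderOf u = p ^ i) (hw : orderOf w = q ^ j) (hu1 : u ≠ 1) (hw1 : w ≠ 1)
    (hc : Commute u w) : normalizer (zpowers u : Set G) = normalizer (zpowers w : Set G) := by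
  have hcop : (orderOf u).Coprime (orderOf w) := by
    rw [hu, hw]
    exact Nat.Coprime.pow _ _ ((Nat.coprime_primes hp hq).mpr hpq)
  have ho : orderOf (u * w) ∣ p ^ i * q ^ j := by
    rw [hc.orderOf_mul_eq_mul_orderOf_of_coprime hcop, hu, hw]
  have h1 := c.norm_of_mem hp hq ho (CentMaxNormal.mem_zpowers_mul hc hcop) hu1
  have h2 : w ∈ zpowers (u * w) := by
    rw [hc.eq]
    exact CentMaxNormal.mem_zpowers_mul hc.symm hcop.symm
  rw [h1, c.norm_of_mem hp hq ho h2 hw1]

theorem odd_normal_eq_bot {N : Subgroup G} (hN : N.Normal) (ho : Odd (Nat.card N)) : N = ⊥ :=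
  c.rad N hN (Cfsg.Agent.S0205.result ho)

theorem even_card : 2 ∣ Nat.card G :=
  even_iff_two_dvd.mp (Nat.not_odd_iff_even.mp fun h => c.nonsolv (Cfsg.Agent.S0205.result h))

theorem cent_coatom {a : G} (ha : orderOf a = 2) : IsCoatom (centralizer ({a} : Set G)) := by
  have h := c.max_pPow Nat.prime_two (i := 1) (z := a)
    (fun e => by rw [e, orderOf_one] at ha; omega) (by rw [ha, pow_one])
  rw [CyclicNorm.normalizer_zpowers_of_involution ha] at h
  exact h

/-- An element of odd prime power order commuting with an involution has that involution's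
centraliser as normaliser. -/
theorem norm_eq_cent {p i : ℕ} (hp : p.Prime) (hp2 : p ≠ 2) {a x : G} (ha : orderOf a = 2)
    (hx : orderOf x = p ^ i) (hx1 : x ≠ 1) (hc : Commute x a) :
    normalizer (zpowers x : Set G) = centralizer ({a} : Set G) := by
  rw [c.norm_eq_of_commute hp Nat.prime_two hp2 (j := 1) hx (by rw [ha, pow_one]) hx1
    (fun e => by rw [e, orderOf_one] at ha; omega) hc,
    CyclicNorm.normalizer_zpowers_of_involution ha]

end Ctx

end CfsgLib.MaxNormalizer
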