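import Mathlib
import Cfsg.Agent.Lib.MaxNormalizer.Basic

/-!
Small general facts used for groups with maximal normalisers.
-/

set_option autoImplicit false
set_option linter.style.haveILetI false

open Subgroup

namespace CfsgLib.MaxNormalizer

variable {G : Type*} [Group G]

theorem orderOf_conj (g a : G) : orderOf (g * a * g⁻¹) = orderOf a :=
  (MulAut.conj g).orderOf_eq a

theorem mem_cent_conj {g a h : G} :
    h ∈ centralizer ({g * a * g⁻¹} : Set G) ↔ g⁻¹ * h * g ∈ centralizer ({a} : Set G) := by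
  simp only [mem_centralizer_singleton_iff]
  constructor
  · intro e
    calc g⁻¹ * h * g * a = g⁻¹ * (h * (g * a * g⁻¹)) * g := by group
      _ = g⁻¹ * (g * a * g⁻¹ * h) * g := by rw [e]
      _ = a * (g⁻¹ * h * g) := by group
  · intro e
    calc h * (g * a * g⁻¹) = g * (g⁻¹ * h * g * a) * g⁻¹ := by group
      _ = g * (a * (g⁻¹ * h * g)) * g⁻¹ := by rw [e]
      _ = g * a * g⁻¹ * h := by group

theorem cent_conj (g a : G) : centralizer ({g * a * g⁻¹} : Set G) =
    (centralizer ({a} : Set G)).map (MulAut.conj g).toMonoidHom := by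
  ext h
  rw [mem_cent_conj]
  constructor
  · intro hh
    exact ⟨_, hh, by simp [mul_assoc]⟩
  · rintro ⟨y, hy, rfl⟩
    simpa [mul_assoc] using hy

theorem isPGroup_cent_conj {p : ℕ} {a : G} (g : G)
    (h : IsPGroup p (centralizer ({a} : Set G))) :
    IsPGroup p (centralizer ({g * a * g⁻¹} : Set G)) := by
  rw [cent_conj]
  exact h.map _

theorem sq_eq_one {a : G} (ha : orderOf a = 2) : a * a = 1 := by
  rw [← sq, ← ha, pow_orderOf_eq_one]

theorem ne_one {a : G} (ha : orderOf a = 2) : a ≠ 1 := fun e => by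
  rw [e, orderOf_one] at ha; omega

theorem orderOf_two {a : G} (h : a * a = 1) (h1 : a ≠ 1) : orderOf a = 2 :=
  orderOf_eq_prime (by rw [sq]; exact h) h1

theorem orderOf_zpow_dvd (x : G) (i : ℤ) : orderOf (x ^ i) ∣ orderOf x :=
  orderOf_dvd_of_pow_eq_one (by
    rw [← zpow_natCast, ← zpow_mul, mul_comm, zpow_mul, zpow_natCast, pow_orderOf_eq_one, one_zpow])

variable [Finite G]

theorem isPGroup_or_exists_odd (C : Subgroup G) :
    IsPGroup 2 C ∨ ∃ p, p.Prime ∧ p ≠ 2 ∧ ∃ x ∈ C, orderOf x = p := by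
  by_cases h : ∀ d : ℕ, d.Prime → d ∣ Nat.card C → d = 2
  · exact Or.inl (IsPGroup.of_card (Nat.eq_prime_pow_of_unique_prime_dvd Nat.card_pos.ne'
      fun {d} hd hdC => h d hd hdC))
  · push Not at h
    obtain ⟨p, hp, hpC, hp2⟩ := h
    haveI := Fact.mk hp
    obtain ⟨x, hx⟩ := exists_prime_orderOf_dvd_card' (G := C) p hpC
    exact Or.inr ⟨p, hp, hp2, x, x.2, by rw [← hx, orderOf_coe]⟩

theorem sylow_eq_of_le {p : ℕ} [Fact p.Prime] (S : Sylow p G) {C : Subgroup G}
    (hC : IsPGroup p C) (hle : (S : Subgroup G) ≤ C) : C = S := S.3 hC hle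

/-- A central involution of a Sylow two-subgroup. -/
theorem exists_central_involution (h2 : 2 ∣ Nat.card G) (S : Sylow 2 G) :
    ∃ a : G, orderOf a = 2 ∧ a ∈ (S : Subgroup G) ∧ ∀ s ∈ (S : Subgroup G), Commute s a := by
  haveI := Fact.mk Nat.prime_two
  haveI : Nontrivial (S : Subgroup G) := (nontrivial_iff_ne_bot _).mpr (S.ne_bot_of_dvd_card h2)
  haveI := S.2.center_nontrivial
  obtain ⟨k, hk⟩ := IsPGroup.iff_card.mp (S.2.to_subgroup (center (S : Subgroup G)))
  have hk0 : k ≠ 0 := by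
    rintro rfl
    exact (Finite.one_lt_card (α := center (S : Subgroup G))).ne' (by simpa using hk)
  obtain ⟨a, ha⟩ := exists_prime_orderOf_dvd_card' (G := center (S : Subgroup G)) 2
    (hk ▸ dvd_pow_self 2 hk0)
  refine ⟨((a : (S : Subgroup G)) : G), by rw [orderOf_coe, orderOf_coe, ha], (a : (S : Subgroup G)).2,
    fun s hs => ?_⟩
  exact congrArg Subtype.val (mem_center_iff.mp a.2 ⟨s, hs⟩)

/-- Burnside's fusion lemma for two central elements of a Sylow subgroup. -/
theorem fusion {p : ℕ} [Fact p.Prime] (S : Sylow p G) {x y g : G}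
    (hx : ∀ s ∈ (S : Subgroup G), Commute s x) (hy : ∀ s ∈ (S : Subgroup G), Commute s y)
    (hg : g * x * g⁻¹ = y) :
    ∃ n ∈ normalizer ((S : Subgroup G) : Set G), n * x * n⁻¹ = y := by
  obtain ⟨n, hn, e⟩ := Sylow.conj_eq_normalizer_conj_of_mem_centralizer S x g⁻¹
    (fun s hs => hx s hs) (by rw [inv_inv, hg]; exact fun s hs => hy s hs)
  refine ⟨n⁻¹, inv_mem hn, ?_⟩
  rw [inv_inv, hg] at e
  rw [inv_inv, ← e]

/-- A self-normalising `p`-subgroup is a Sylow subgroup. -/
theorem eq_sylow_of_normalizer_self {p : ℕ} [Fact p.Prime] {M : Subgroup G} (hM : IsPGroup p M)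
    (h : normalizer (M : Set G) = M) : ∃ P : Sylow p G, (P : Subgroup G) = M := by
  obtain ⟨P, hP⟩ := hM.exists_le_sylow
  refine ⟨P, le_antisymm ?_ hP⟩
  by_contra hne
  haveI := P.2.isNilpotent
  have hlt : M.subgroupOf (P : Subgroup G) < ⊤ :=
    lt_top_iff_ne_top.mpr fun e => hne (subgroupOf_eq_top.mp e)
  obtain ⟨w, hwN, hwM⟩ :=
    SetLike.exists_of_lt (Group.normalizerCondition_of_isNilpotent (G := (P : Subgroup G)) _ hlt)
  refine hwM (mem_subgroupOf.mpr (h.le (mem_normalizer_iff.mpr fun x => ?_)))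
  have key : ∀ y : (P : Subgroup G),
      (y : G) ∈ M ↔ ((w * y * w⁻¹ : (P : Subgroup G)) : G) ∈ M := fun y => by
    simpa only [mem_subgroupOf] using mem_normalizer_iff.mp hwN y
  constructor
  · intro hx
    exact (key ⟨x, hP hx⟩).mp hx
  · intro hx
    have hxP : x ∈ (P : Subgroup G) := by
      have := mul_mem (mul_mem (inv_mem w.2) (hP hx)) w.2
      rwa [show (w : G)⁻¹ * ((w : G) * x * (w : G)⁻¹) * w = x by group] at this
    exact (key ⟨x, hxP⟩).mpr hx

/-- A proper subgroup of a `p`-group `P` is properly contained in its normaliser in `P`. -/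
theorem exists_mem_normalizer {p : ℕ} [Fact p.Prime] {P U : Subgroup G} (hP : IsPGroup p P)
    (hU : U < P) : ∃ w ∈ P, w ∉ U ∧ w ∈ normalizer (U : Set G) := by
  haveI := hP.isNilpotent
  have hlt : U.subgroupOf P < ⊤ :=
    lt_top_iff_ne_top.mpr fun e => hU.not_ge (subgroupOf_eq_top.mp e)
  obtain ⟨w, hwN, hwM⟩ :=
    SetLike.exists_of_lt (Group.normalizerCondition_of_isNilpotent (G := P) _ hlt)
  refine ⟨w, w.2, fun h => hwM (mem_subgroupOf.mpr h), mem_normalizer_iff.mpr fun x => ?_⟩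
  have key : ∀ y : P, (y : G) ∈ U ↔ ((w * y * w⁻¹ : P) : G) ∈ U := fun y => by
    simpa only [mem_subgroupOf] using mem_normalizer_iff.mp hwN y
  constructor
  · intro hx
    exact (key ⟨x, hU.le hx⟩).mp hx
  · intro hx
    have hxP : x ∈ P := by
      have := mul_mem (mul_mem (inv_mem w.2) (hU.le hx)) w.2
      rwa [show (w : G)⁻¹ * ((w : G) * x * (w : G)⁻¹) * w = x by group] at this
    exact (key ⟨x, hxP⟩).mpr hx

end CfsgLib.MaxNormalizer
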