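import Mathlib
import Cfsg.Agent.Lib.MaxNormalizer.Common
import Cfsg.Agent.Lib.Coprime.Action
import Cfsg.Agent.Lib.SL2.PSL
import Cfsg.Agent.S0215
import Cfsg.Agent.S3331

/-!
The centraliser of a central involution is not the normaliser of a Sylow two-subgroup.
-/

set_option autoImplicit false
set_option linter.style.haveILetI false

open Subgroup
open scoped Pointwise

namespace CfsgLib.MaxNormalizer

variable {G : Type*} [Group G] [Finite G]

theorem zpow_cases {x : G} (hx : orderOf x = 3) {y : G} (hy : y ∈ zpowers x) :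
    y = 1 ∨ y = x ∨ y = x⁻¹ := by
  obtain ⟨k, rfl⟩ := mem_zpowers_iff.mp hy
  rw [← zpow_mod_orderOf x k, hx]
  have : k % ((3 : ℕ) : ℤ) = 0 ∨ k % ((3 : ℕ) : ℤ) = 1 ∨ k % ((3 : ℕ) : ℤ) = 2 := by omega
  rcases this with h | h | h <;> rw [h]
  · exact Or.inl (zpow_zero x)
  · exact Or.inr (Or.inl (zpow_one x))
  · refine Or.inr (Or.inr (eq_inv_of_mul_eq_one_left ?_))
    rw [zpow_two, mul_assoc, ← pow_three, ← hx, pow_orderOf_eq_one]

theorem not_orderOf_odd {P : Subgroup G} (hP : IsPGroup 2 P) {y : G} {p : ℕ} (hp : p.Prime)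
    (hp2 : p ≠ 2) (hy : y ∈ P) (h : p ∣ orderOf y) : False := by
  obtain ⟨k, hk⟩ := IsPGroup.iff_orderOf.mp hP ⟨y, hy⟩
  rw [← orderOf_coe] at hk
  exact hp2 ((Nat.prime_dvd_prime_iff_eq hp Nat.prime_two).mp (hp.dvd_of_dvd_pow (hk ▸ h)))

theorem inf_eq_bot_of_two {P : Subgroup G} (hP : IsPGroup 2 P) {x : G} {p : ℕ} (hp : p.Prime)
    (hp2 : p ≠ 2) (hx : orderOf x = p) : P ⊓ zpowers x = ⊥ := by
  rw [eq_bot_iff]
  rintro z ⟨hzP, hzX⟩
  by_contra hz
  rw [mem_bot] at hz
  have h1 : orderOf z ∣ p := by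
    obtain ⟨k, rfl⟩ := mem_zpowers_iff.mp hzX
    exact hx ▸ orderOf_zpow_dvd x k
  rcases (Nat.dvd_prime hp).mp h1 with e | e
  · exact hz (orderOf_eq_one_iff.mp e)
  · exact not_orderOf_odd hP hp hp2 hzP (by rw [e])

/-- The final configuration: an element of order three inverted by an involution commuting with
an involution whose centraliser is a two-group. -/
theorem three_case (c : Ctx G) (S : Sylow 2 G) (h16 : 16 ≤ Nat.card (S : Subgroup G)) {a x s : G}
    (ha : orderOf a = 2) (ha2 : IsPGroup 2 (centralizer ({a} : Set G))) (hx : orderOf x = 3)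
    (hs : orderOf s = 2) (hsx : s * x * s⁻¹ = x⁻¹) (hsa : Commute s a) (hne : s ≠ a) : False := by
  classical
  haveI := Fact.mk Nat.prime_two
  haveI := Fact.mk Nat.prime_three
  have hx1 : x ≠ 1 := fun e => by rw [e, orderOf_one] at hx; omega
  have hx3 : x ^ (3 : ℤ) = 1 := by
    rw [show (3 : ℤ) = ((3 : ℕ) : ℤ) from rfl, zpow_natCast, ← hx, pow_orderOf_eq_one]
  have hconjz : ∀ i : ℤ, s * x ^ i * s⁻¹ = x ^ (-i) := fun i => by
    rw [← conj_zpow, hsx, inv_zpow, zpow_neg]
  have hsz : ∀ i : ℤ, x ^ i * s * (x ^ i)⁻¹ = x ^ (2 * i) * s := fun i => by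
    have h := hconjz (-i)
    rw [neg_neg, mul_inv_eq_iff_eq_mul] at h
    rw [← zpow_neg, mul_assoc, h, ← mul_assoc, ← zpow_add]
    congr 2
    omega
  have hdvd : ∀ i : ℤ, x ^ (2 * i) = 1 → x ^ i = 1 := fun i h => by
    rw [← orderOf_dvd_iff_zpow_eq_one, hx] at h ⊢
    omega
  have hN : IsCoatom (normalizer (zpowers x : Set G)) :=
    c.max_pPow Nat.prime_three (i := 1) hx1 (by rw [hx, pow_one])
  set N := normalizer (zpowers x : Set G) with hNdef
  have hsN : s ∈ N := mem_norm_zpowers (by rw [hsx]; exact inv_mem (mem_zpowers x))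
  have hxN : x ∈ N := le_normalizer (mem_zpowers x)
  -- the dihedral subgroup of order six
  set H0 := zpowers x ⊔ zpowers s with hH0
  have hmem : ∀ h ∈ H0, ∃ i : ℤ, h = x ^ i ∨ h = x ^ i * s := by
    intro h hh
    have h2 : h ∈ (zpowers x : Set G) * (zpowers s : Set G) := by
      rw [← coe_mul_of_right_le_normalizer_left _ _ (zpowers_le.mpr hsN)]
      exact hh
    obtain ⟨u, hu, v, hv, rfl⟩ := h2
    obtain ⟨i, rfl⟩ := mem_zpowers_iff.mp hu
    obtain ⟨j, rfl⟩ := mem_zpowers_iff.mp hv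
    refine ⟨i, ?_⟩
    dsimp only
    rw [← zpow_mod_orderOf s j, hs]
    have : j % ((2 : ℕ) : ℤ) = 0 ∨ j % ((2 : ℕ) : ℤ) = 1 := by omega
    rcases this with e | e <;> rw [e]
    · exact Or.inl (by rw [zpow_zero, mul_one])
    · exact Or.inr (by rw [zpow_one])
  have hinv : ∀ i : ℤ, (x ^ i * s) * (x ^ i * s) = 1 := fun i => by
    have h := hconjz i
    rw [mul_inv_eq_iff_eq_mul] at h
    rw [mul_assoc, ← mul_assoc s, h, mul_assoc (x ^ (-i)), sq_eq_one hs, mul_one, zpow_neg,
      mul_inv_cancel]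
  have hH0ord : ∀ h ∈ H0, orderOf h ∣ 3 ∨ orderOf h ∣ 2 := by
    intro h hh
    obtain ⟨i, rfl | rfl⟩ := hmem h hh
    · exact Or.inl (hx ▸ orderOf_zpow_dvd x i)
    · exact Or.inr (orderOf_dvd_of_pow_eq_one (by rw [sq]; exact hinv i))
  have hH0b : Biprimary H0 := by
    refine ⟨3, 2, Nat.prime_three, Nat.prime_two, fun r hr hrH => ?_⟩
    haveI := Fact.mk hr
    obtain ⟨h, hh⟩ := exists_prime_orderOf_dvd_card' (G := H0) r hrH
    rw [← orderOf_coe] at hh
    refine (hH0ord _ h.2).imp (fun e => ?_) (fun e => ?_) <;>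
      exact (Nat.prime_dvd_prime_iff_eq hr (by norm_num)).mp (hh ▸ e)
  have hH0s : Group.IsSolvable H0 := CfsgLib.Coprime.isSolvable_sup_of_le_normalizer
    (isSolvable_zpowers x) (isSolvable_zpowers s) (zpowers_le.mpr hsN)
  have hH01 : H0 ≠ ⊥ := fun e => hx1 <| mem_bot.mp <| e ▸ mem_sup_left (mem_zpowers x)
  have hle : normalizer (H0 : Set G) ≤ N := by
    intro g hg
    refine mem_norm_zpowers ?_
    obtain ⟨i, e | e⟩ := hmem _ ((mem_normalizer_iff.mp hg x).mp (mem_sup_left (mem_zpowers x)))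
    · exact e ▸ zpow_mem (mem_zpowers x) i
    · exfalso
      have h1 : orderOf (g * x * g⁻¹) ∣ 2 :=
        orderOf_dvd_of_pow_eq_one (by rw [sq, e]; exact hinv i)
      rw [orderOf_conj, hx] at h1
      omega
  have hNH0 : normalizer (H0 : Set G) = N :=
    ((c.max H0 hH01 hH0s hH0b).le_iff.mp hle).resolve_left hN.ne_top |>.symm
  have hdec : ∀ g ∈ N, ∃ m : ℤ, Commute (x ^ m * g) s := by
    intro g hg
    rw [← hNH0] at hg
    obtain ⟨i, e | e⟩ := hmem _ ((mem_normalizer_iff.mp hg s).mp (mem_sup_right (mem_zpowers s)))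
    · exfalso
      have h1 : orderOf (g * s * g⁻¹) ∣ 3 := by rw [e]; exact hx ▸ orderOf_zpow_dvd x i
      rw [orderOf_conj, hs] at h1
      omega
    · refine ⟨i, ?_⟩
      have h1 : x ^ i * g * s * (x ^ i * g)⁻¹ = s := by
        calc x ^ i * g * s * (x ^ i * g)⁻¹ = x ^ i * (g * s * g⁻¹) * (x ^ i)⁻¹ := by group
          _ = x ^ i * x ^ i * (s * (x ^ i)⁻¹) := by rw [e]; group
          _ = x ^ i * x ^ i * (x ^ i * s) := by
            have h := hconjz (-i)
            rw [neg_neg, mul_inv_eq_iff_eq_mul, zpow_neg] at h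
            rw [h]
          _ = x ^ (3 * i) * s := by
            rw [← mul_assoc, ← zpow_add, ← zpow_add]
            congr 2
            omega
          _ = s := by rw [zpow_mul, hx3, one_zpow, one_mul]
      exact mul_inv_eq_iff_eq_mul.mp h1
  set T := N ⊓ centralizer ({s} : Set G) with hT
  set Z := centralizer ({x} : Set G) ⊓ centralizer ({s} : Set G) with hZ
  have hCN : centralizer ({x} : Set G) ≤ N := by
    rw [hNdef, ← centralizer_closure, ← zpowers_eq_closure]
    exact centralizer_le_normalizer _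
  have hsT : s ∈ T := ⟨hsN, mem_centralizer_singleton_iff.mpr rfl⟩
  have hTZ : ∀ t ∈ T, t ∈ Z ∨ t * s ∈ Z := by
    intro t ht
    have htx := conj_mem_of_norm ht.1 (mem_zpowers x)
    rcases zpow_cases hx htx with e | e | e
    · exact absurd (conj_eq_one_iff.mp e) hx1
    · exact Or.inl ⟨mem_centralizer_singleton_iff.mpr (mul_inv_eq_iff_eq_mul.mp e), ht.2⟩
    · refine Or.inr ⟨mem_centralizer_singleton_iff.mpr ?_,
        mul_mem ht.2 (mem_centralizer_singleton_iff.mpr rfl)⟩
      have h1 : t * s * x * (t * s)⁻¹ = x := by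
        calc t * s * x * (t * s)⁻¹ = t * (s * x * s⁻¹) * t⁻¹ := by group
          _ = (t * x * t⁻¹)⁻¹ := by rw [hsx]; group
          _ = x := by rw [e, inv_inv]
      exact mul_inv_eq_iff_eq_mul.mp h1
  have hxs : ¬ Commute x s := by
    intro h
    rw [← h.eq, mul_inv_cancel_right] at hsx
    have h1 : x * x = 1 := by nth_rewrite 2 [hsx]; rw [mul_inv_cancel]
    have h2 : orderOf x ∣ 2 := orderOf_dvd_of_pow_eq_one (by rw [sq]; exact h1)
    rw [hx] at h2
    omega
  have hZ2 : IsPGroup 2 Z := by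
    refine (isPGroup_or_exists_odd Z).resolve_right ?_
    rintro ⟨p, hp, hp2, y, hy, hyo⟩
    have hy1 : y ≠ 1 := fun e => by rw [e, orderOf_one] at hyo; exact hp.ne_one hyo.symm
    have h1 := c.norm_eq_cent hp hp2 (i := 1) hs (by rw [hyo, pow_one]) hy1
      (mem_centralizer_singleton_iff.mp hy.2)
    refine hxs (mem_centralizer_singleton_iff.mp (h1 ▸ ?_))
    exact mem_norm_zpowers (by
      rw [show x * y * x⁻¹ = y by rw [← mem_centralizer_singleton_iff.mp hy.1, mul_inv_cancel_right]]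
      exact mem_zpowers y)
  have hT2 : IsPGroup 2 T := by
    refine (isPGroup_or_exists_odd T).resolve_right ?_
    rintro ⟨p, hp, hp2, y, hy, hyo⟩
    rcases hTZ y hy with h | h
    · exact not_orderOf_odd hZ2 hp hp2 h (by rw [hyo])
    · have hc : Commute y s := mem_centralizer_singleton_iff.mp hy.2
      refine not_orderOf_odd hZ2 hp hp2 h ?_
      rw [hc.orderOf_mul_eq_mul_orderOf_of_coprime (by
        rw [hyo, hs]; exact (Nat.coprime_primes hp Nat.prime_two).mpr hp2), hyo]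
      exact dvd_mul_right p _
  by_cases hZ1 : Z = ⊥
  · -- `C(x) = ⟨x⟩`
    have hCX : centralizer (zpowers x : Set G) = zpowers x := by
      refine le_antisymm ?_ (fun z hz w hw => ?_)
      · intro g hg
        have hgx : Commute g x := (hg x (mem_zpowers x)).symm
        obtain ⟨m, hm⟩ := hdec g (hCN (mem_centralizer_singleton_iff.mpr hgx.eq))
        have h1 : x ^ m * g ∈ Z := ⟨mem_centralizer_singleton_iff.mpr
          (((Commute.refl x).zpow_left m).mul_left hgx).eq, mem_centralizer_singleton_iff.mpr hm.eq⟩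
        rw [hZ1, mem_bot, mul_eq_one_iff_eq_inv'] at h1
        rw [h1]
        exact inv_mem (zpow_mem (mem_zpowers x) m)
      · obtain ⟨i, rfl⟩ := mem_zpowers_iff.mp hz
        obtain ⟨j, rfl⟩ := mem_zpowers_iff.mp hw
        exact ((Commute.refl x).zpow_zpow j i).eq
    obtain ⟨k, hk⟩ := IsPGroup.iff_card.mp S.2
    have hk4 : 4 ≤ k := by
      by_contra hlt
      have : 2 ^ k ≤ 2 ^ 3 := Nat.pow_le_pow_right (by norm_num) (by omega)
      rw [hk] at h16
      omega
    have h16G : 16 ∣ Nat.card G :=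
      ((pow_dvd_pow 2 hk4).trans (hk ▸ card_subgroup_dvd_card (S : Subgroup G)) : 2 ^ 4 ∣ _)
    rcases Cfsg.Agent.S3331.result (zpowers x) (by rw [Nat.card_zpowers, hx]) hCX with
      ⟨N', hN', hnil, -, h | h⟩ | ⟨N', hN', hab, -, ⟨e⟩⟩ | hp7
    · haveI := hnil
      obtain rfl := c.rad N' hN' inferInstance
      rw [Nat.card_congr QuotientGroup.quotientBot.toEquiv] at h
      omega
    · haveI := hnil
      obtain rfl := c.rad N' hN' inferInstance
      obtain ⟨e⟩ := h
      rw [Nat.card_congr (QuotientGroup.quotientBot.symm.trans e).toEquiv, Nat.card_perm,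
        Nat.card_fin] at h16G
      norm_num [Nat.factorial] at h16G
    · obtain rfl := c.rad N' hN' (Group.isSolvable_of_comm hab.is_comm.comm)
      rw [Nat.card_congr (QuotientGroup.quotientBot.symm.trans e).toEquiv,
        nat_card_alternatingGroup, Nat.card_fin] at h16G
      norm_num [Nat.factorial] at h16G
    · haveI : Fact (Nat.Prime 7) := ⟨by norm_num⟩
      have h := CfsgLib.SL2.card_PSL (F := ZMod 7)
      obtain ⟨e7⟩ := hp7
      rw [← Nat.card_congr e7.toEquiv, Nat.card_zmod] at h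
      norm_num at h
      omega
  -- `Z` has an involution
  haveI : Nontrivial Z := (nontrivial_iff_ne_bot _).mpr hZ1
  obtain ⟨k, hk⟩ := IsPGroup.iff_card.mp hZ2
  obtain ⟨c₀, hc₀⟩ := exists_prime_orderOf_dvd_card' (G := Z) 2 (hk ▸ dvd_pow_self 2 (by
    rintro rfl
    exact (Finite.one_lt_card (α := Z)).ne' (by simpa using hk)))
  rw [← orderOf_coe] at hc₀
  have hNi : ∀ i ∈ Z, orderOf i = 2 → centralizer ({i} : Set G) = N := fun i hi hio =>
    (c.norm_eq_cent Nat.prime_three (by norm_num) (i := 1) hio (by rw [hx, pow_one]) hx1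
      (mem_centralizer_singleton_iff.mp hi.1).symm).symm
  have hC₀ := hNi _ c₀.2 hc₀
  have hcs : Commute (c₀ : G) s := mem_centralizer_singleton_iff.mp c₀.2.2
  -- the normaliser of `T` leaves `N`
  have hTbot : T ≠ ⊥ := fun e => ne_one hs (mem_bot.mp (e ▸ hsT))
  have hTX : T ⊓ zpowers x = ⊥ := inf_eq_bot_of_two hT2 Nat.prime_three (by norm_num) hx
  have hNT : ∀ y ∈ N, y ∈ normalizer (T : Set G) → y ∈ T := by
    intro y hy hyT
    obtain ⟨m, hm⟩ := hdec y hy
    have hyT' : x ^ m * y ∈ T :=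
      ⟨mul_mem (zpow_mem hxN m) hy, mem_centralizer_singleton_iff.mpr hm.eq⟩
    have hm' : x ^ m ∈ normalizer (T : Set G) := by
      have := mul_mem (le_normalizer hyT') (inv_mem hyT)
      rwa [mul_inv_cancel_right] at this
    have h1 := (mem_normalizer_iff.mp hm' s).mp hsT
    rw [hsz] at h1
    have h2 : x ^ (2 * m) ∈ T ⊓ zpowers x := ⟨by
      have := mul_mem h1 (inv_mem hsT)
      rwa [mul_inv_cancel_right] at this, zpow_mem (mem_zpowers x) _⟩
    rw [hTX, mem_bot] at h2
    rw [hdvd m h2, one_mul] at hyT'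
    exact hyT'
  obtain ⟨g, hgT, hgN⟩ : ∃ g ∈ normalizer (T : Set G), g ∉ N := by
    by_contra hcon
    push Not at hcon
    have hle' : normalizer (T : Set G) ≤ N := hcon
    have e : N = normalizer (T : Set G) :=
      ((c.max_pGroup hT2 hTbot).le_iff.mp hle').resolve_left hN.ne_top
    have h1 : x ∈ T ⊓ zpowers x := ⟨hNT x hxN (e ▸ hxN), mem_zpowers x⟩
    rw [hTX, mem_bot] at h1
    exact hx1 h1
  have hgZ : ∀ z ∈ Z, z ≠ 1 → g * z * g⁻¹ ∉ Z := by
    intro z hz hz1 hgz
    obtain ⟨j, hj⟩ := IsPGroup.iff_orderOf.mp hZ2 ⟨z, hz⟩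
    rw [← orderOf_coe] at hj
    rcases j with _ | j
    · exact hz1 (orderOf_eq_one_iff.mp (by simpa using hj))
    set i := z ^ 2 ^ j with hi
    have hio : orderOf i = 2 := by
      rw [hi, orderOf_pow' z (pow_ne_zero _ (by norm_num)), hj,
        Nat.gcd_eq_right (pow_dvd_pow 2 j.le_succ), pow_succ, Nat.mul_div_cancel_left _ (by positivity)]
    have hiZ : i ∈ Z := pow_mem hz _
    have hgiZ : g * i * g⁻¹ ∈ Z := by rw [hi, ← conj_pow]; exact pow_mem hgz _
    have e2 := hNi _ hgiZ (by rw [orderOf_conj, hio])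
    refine hgN ?_
    have h3 : g ∈ normalizer (N : Set G) := by
      rw [mem_normalizer_iff]
      intro h
      conv_rhs => rw [← e2, mem_cent_conj, hNi i hiZ hio]
      simp [mul_assoc]
    haveI hsolv : Group.IsSolvable (zpowers x) := isSolvable_zpowers x
    by_contra hgN'
    rcases hN.le_iff.mp (le_normalizer : N ≤ normalizer (N : Set G)) with e | e
    · -- `N` is not normal
      have hnorm : N.Normal := normalizer_eq_top_iff.mp e
      have hgN2 : centralizer ({(c₀ : G)} : Set G) = N := hC₀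
      have hcen : Subgroup.center N ≠ ⊥ := by
        intro h0
        have : (⟨(c₀ : G), hCN c₀.2.1⟩ : N) ∈ Subgroup.center N := mem_center_iff.mpr fun n =>
          Subtype.ext (mem_centralizer_singleton_iff.mp (hgN2.ge n.2))
        rw [h0, mem_bot] at this
        exact ne_one hc₀ (congrArg Subtype.val this)
      haveI := hnorm
      refine hcen ((map_eq_bot_iff_of_injective _ N.subtype_injective).mp (c.rad _ inferInstance ?_))
      exact CfsgLib.Coprime.isSolvable_map _ (Group.isSolvable_of_comm fun u v =>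
        Subtype.ext (mem_center_iff.mp v.2 u))
    · exact hgN' (e ▸ h3)
  have hZc : ∀ z ∈ Z, z = 1 ∨ z = c₀ := by
    intro z hz
    by_contra hne'
    push Not at hne'
    have hcomm : ∀ w ∈ Z, Commute w s := fun w hw => mem_centralizer_singleton_iff.mp hw.2
    have hout : ∀ w ∈ Z, w ≠ 1 → g * w * g⁻¹ * s ∈ Z := fun w hw hw1 =>
      (hTZ _ ((mem_normalizer_iff.mp hgT w).mp ⟨hCN hw.1, hw.2⟩)).resolve_left (hgZ w hw hw1)
    have h1 := mul_mem (inv_mem (hout _ c₀.2 (ne_one hc₀))) (hout z hz hne'.1)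
    refine hgZ ((c₀ : G)⁻¹ * z) (mul_mem (inv_mem c₀.2) hz) ?_ ?_
    · rw [Ne, inv_mul_eq_one]
      exact fun e => hne'.2 e.symm
    · have hzT : Commute (g * ((c₀ : G)⁻¹ * z) * g⁻¹) s := mem_centralizer_singleton_iff.mp
        ((mem_normalizer_iff.mp hgT _).mp ⟨hCN (mul_mem (inv_mem c₀.2) hz).1,
          (mul_mem (inv_mem c₀.2) hz).2⟩).2
      convert h1 using 1
      calc g * ((c₀ : G)⁻¹ * z) * g⁻¹ = s⁻¹ * (g * ((c₀ : G)⁻¹ * z) * g⁻¹) * s := by
            rw [mul_assoc s⁻¹, hzT.eq, inv_mul_cancel_left]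
        _ = (g * c₀ * g⁻¹ * s)⁻¹ * (g * z * g⁻¹ * s) := by group
  have hTel : ∀ t ∈ T, t = 1 ∨ t = c₀ ∨ t = s ∨ t = (c₀ : G) * s := by
    intro t ht
    rcases hTZ t ht with h | h
    · rcases hZc t h with e | e
      · exact Or.inl e
      · exact Or.inr (Or.inl e)
    · have hss : t = t * s * s := by rw [mul_assoc, sq_eq_one hs, mul_one]
      rcases hZc _ h with e | e
      · exact Or.inr (Or.inr (Or.inl (by rw [hss, e, one_mul])))
      · exact Or.inr (Or.inr (Or.inr (by rw [hss, e])))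
  have hc₀T : (c₀ : G) ∈ T := ⟨hCN c₀.2.1, c₀.2.2⟩
  rcases isPGroup_or_exists_odd (normalizer (T : Set G)) with hP | ⟨p, hp, hp2, y, hy, hyo⟩
  · -- a two-group: too small
    have hne_top := c.norm_ne_top hTbot (isSolvable_pGroup hT2)
    have hbot : normalizer (T : Set G) ≠ ⊥ := fun e => hTbot (le_bot_iff.mp (e ▸ le_normalizer))
    obtain ⟨P, hP'⟩ := eq_sylow_of_normalizer_self hP
      (c.not_normal_coatom (c.max_pGroup hT2 hTbot) (isSolvable_pGroup hP) hbot)
    have hcardP : Nat.card (normalizer (T : Set G)) = Nat.card (S : Subgroup G) := by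
      rw [← hP', P.card_eq_multiplicity, S.card_eq_multiplicity]
    haveI : Fintype (normalizer (T : Set G)) := Fintype.ofFinite _
    let A : Finset G := {(c₀ : G), s, (c₀ : G) * s}
    let B : Finset G := {1, (c₀ : G), s, (c₀ : G) * s}
    have himg : ∀ y : normalizer (T : Set G), (y : G) * c₀ * (y : G)⁻¹ ∈ A := fun y => by
      have hyT := (mem_normalizer_iff.mp y.2 _).mp hc₀T
      rcases hTel _ hyT with e | e | e | e
      · exact absurd (conj_eq_one_iff.mp e) (ne_one hc₀)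
      all_goals simp [A, e]
    have hfib : ∀ b : G, (Finset.univ.filter fun y : normalizer (T : Set G) =>
        (y : G) * c₀ * (y : G)⁻¹ = b).card ≤ 4 := by
      intro b
      rcases (Finset.univ.filter fun y : normalizer (T : Set G) =>
        (y : G) * c₀ * (y : G)⁻¹ = b).eq_empty_or_nonempty with h0 | ⟨y₀, hy₀⟩
      · rw [h0]; simp
      have hy₀' : (y₀ : G) * c₀ * (y₀ : G)⁻¹ = b := (Finset.mem_filter.mp hy₀).2
      have hB4 : B.card ≤ 4 := Finset.card_le_four
      refine le_trans (Finset.card_le_card_of_injOn (fun y => (y₀ : G)⁻¹ * y) ?_ ?_) hB4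
      · intro y hy
        have hy' : (y : G) * c₀ * (y : G)⁻¹ = b := (Finset.mem_filter.mp hy).2
        have h1 : (y₀ : G)⁻¹ * y ∈ centralizer ({(c₀ : G)} : Set G) := by
          rw [mem_centralizer_singleton_iff, ← mul_inv_eq_iff_eq_mul]
          calc (y₀ : G)⁻¹ * y * c₀ * ((y₀ : G)⁻¹ * y)⁻¹
              = (y₀ : G)⁻¹ * ((y : G) * c₀ * (y : G)⁻¹) * y₀ := by group
            _ = (y₀ : G)⁻¹ * ((y₀ : G) * c₀ * (y₀ : G)⁻¹) * y₀ := by rw [hy', hy₀']
            _ = c₀ := by group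
        rw [hC₀] at h1
        rcases hTel _ (hNT _ h1 (mul_mem (inv_mem y₀.2) y.2)) with e | e | e | e <;>
          simp [B, e]
      · intro y _ y' _ e
        exact Subtype.ext (mul_left_cancel e)
    have hle12 := Finset.card_le_mul_card_image_of_maps_to (s := Finset.univ) (t := A)
      (f := fun y : normalizer (T : Set G) => (y : G) * c₀ * (y : G)⁻¹)
      (fun y _ => himg y) 4 (fun b _ => hfib b)
    rw [Finset.card_univ, ← Nat.card_eq_fintype_card, hcardP] at hle12
    have hA : A.card ≤ 3 := Finset.card_le_three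
    omega
  · -- an element of odd order permuting the three involutions
    have hy1 : y ≠ 1 := fun e => by rw [e, orderOf_one] at hyo; exact hp.ne_one hyo.symm
    have hnot : ∀ w ∈ zpowers y, w ≠ 1 → ¬ Commute w (c₀ : G) := by
      intro w hw hw1 hcw
      have hwT := hNT w (hC₀ ▸ mem_centralizer_singleton_iff.mpr hcw.eq)
        (zpowers_le.mpr hy hw)
      have h1 : w ∈ T ⊓ zpowers y := ⟨hwT, hw⟩
      rw [inf_eq_bot_of_two hT2 hp hp2 hyo, mem_bot] at h1
      exact hw1 h1
    set d := y * c₀ * y⁻¹ with hd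
    set e' := y * d * y⁻¹ with he'
    have hdT := (mem_normalizer_iff.mp hy _).mp hc₀T
    have heT := (mem_normalizer_iff.mp hy _).mp hdT
    have hd1 : d ≠ 1 := fun h => ne_one hc₀ (conj_eq_one_iff.mp h)
    have he1 : e' ≠ 1 := fun h => hd1 (conj_eq_one_iff.mp h)
    have hdc : d ≠ c₀ := fun h => hnot y (mem_zpowers y) hy1 (mul_inv_eq_iff_eq_mul.mp h)
    have hec : e' ≠ c₀ := fun h => hnot (y * y) (mul_mem (mem_zpowers y) (mem_zpowers y))
      (fun h2 => by
        have h3 : orderOf y ∣ 2 := orderOf_dvd_of_pow_eq_one (by rw [sq]; exact h2)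
        rw [hyo, Nat.prime_dvd_prime_iff_eq hp Nat.prime_two] at h3
        exact hp2 h3)
      (mul_inv_eq_iff_eq_mul.mp (by
        calc y * y * c₀ * (y * y)⁻¹ = e' := by rw [he', hd]; group
          _ = c₀ := h))
    have hed : e' ≠ d := fun h => hdc (mul_left_cancel (mul_right_cancel (h.trans hd)))
    have hdc' : IsConj (c₀ : G) d := isConj_iff.mpr ⟨y, rfl⟩
    have hec' : IsConj (c₀ : G) e' := hdc'.trans (isConj_iff.mpr ⟨y, rfl⟩)
    have hall : IsConj (c₀ : G) s ∧ IsConj (c₀ : G) ((c₀ : G) * s) := by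
      rcases hTel _ hdT with h | h | h | h
      · exact absurd h hd1
      · exact absurd h hdc
      all_goals rcases hTel _ heT with h' | h' | h' | h'
      all_goals first
        | exact absurd h' he1
        | exact absurd h' hec
        | exact ⟨h ▸ hdc', h' ▸ hec'⟩
        | exact ⟨h' ▸ hec', h ▸ hdc'⟩
        | exact absurd (h'.trans h.symm) hed
    obtain ⟨g', hg'⟩ := isConj_iff.mp hall.1.symm
    have hno : ¬ IsConj (c₀ : G) a := by
      intro h
      obtain ⟨q, hq⟩ := isConj_iff.mp h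
      have h2 := isPGroup_cent_conj q⁻¹ ha2
      rw [show q⁻¹ * a * q⁻¹⁻¹ = c₀ by rw [← hq]; group, hC₀] at h2
      exact not_orderOf_odd h2 Nat.prime_three (by norm_num) hxN (by rw [hx])
    set v := g' * a * g'⁻¹ with hv
    have hvc : Commute v (c₀ : G) := by
      rw [hv, ← hg']
      exact hsa.symm.map (MulAut.conj g').toMonoidHom
    have hvo : orderOf v = 2 := by rw [hv, orderOf_conj, ha]
    obtain ⟨m, hm⟩ := hdec v (hC₀ ▸ mem_centralizer_singleton_iff.mpr hvc.eq)
    have hmT : x ^ m * v ∈ T := ⟨mul_mem (zpow_mem hxN m)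
      (hC₀ ▸ mem_centralizer_singleton_iff.mpr hvc.eq), mem_centralizer_singleton_iff.mpr hm.eq⟩
    have hcx : Commute (c₀ : G) x := mem_centralizer_singleton_iff.mp c₀.2.1
    have hfin : ∀ t : G, IsConj (c₀ : G) t → x ^ (2 * m) * t = x ^ m * t * (x ^ m)⁻¹ →
        x ^ m * v = t → False := by
      intro t ht ht' e
      refine hno (ht.trans ((isConj_iff.mpr ⟨x ^ m, ?_⟩).trans
        (isConj_iff.mpr ⟨g'⁻¹, (by rw [hv]; group : g'⁻¹ * v * g'⁻¹⁻¹ = a)⟩)))
      rw [← ht', ← e, ← mul_assoc, ← zpow_add, show (2 * m + m) = 3 * m by omega, zpow_mul, hx3,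
        one_zpow, one_mul]
    rcases hTel _ hmT with e | e | e | e
    · rw [mul_eq_one_iff_eq_inv', ← zpow_neg] at e
      have h1 : orderOf v ∣ 3 := e ▸ hx ▸ orderOf_zpow_dvd x (-m)
      rw [hvo] at h1
      omega
    · have hv' : v = x ^ (-m) * c₀ := by rw [← e, zpow_neg, inv_mul_cancel_left]
      have h2 : x ^ (2 * (-m)) = 1 := by
        have := sq_eq_one hvo
        rw [hv', mul_assoc, ← mul_assoc (c₀ : G), (hcx.zpow_right (-m)).eq, mul_assoc (x ^ (-m)),
          sq_eq_one hc₀, mul_one, ← zpow_add] at this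
        rwa [two_mul]
      rw [hdvd _ h2, one_mul] at hv'
      exact hne (mul_left_cancel (mul_right_cancel (hg'.trans (hv'.symm.trans hv))))
    · exact hfin s hall.1 (hsz m).symm e
    · refine hfin _ hall.2 ?_ e
      calc x ^ (2 * m) * ((c₀ : G) * s) = (c₀ : G) * (x ^ (2 * m) * s) := by
            rw [← mul_assoc, ← (hcx.zpow_right _).eq, mul_assoc]
        _ = (c₀ : G) * x ^ m * s * (x ^ m)⁻¹ := by rw [← hsz m]; group
        _ = x ^ m * ((c₀ : G) * s) * (x ^ m)⁻¹ := by rw [(hcx.zpow_right m).eq]; group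

set_option maxHeartbeats 1000000 in
/-- No conjugate of a self-centralising Sylow two-subgroup's central involution moves. -/
theorem isolated_two (c : Ctx G) (S : Sylow 2 G) {a y g : G} (ha : orderOf a = 2)
    (hSC : centralizer ({a} : Set G) = S)
    (hNS : normalizer ((S : Subgroup G) : Set G) = (S : Subgroup G))
    (hy : y ∈ (S : Subgroup G)) (hg : g * a * g⁻¹ = y) (hya : y ≠ a) : False := by
  classical
  haveI := Fact.mk Nat.prime_two
  have hScoatom : IsCoatom (S : Subgroup G) := hSC ▸ c.cent_coatom ha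
  have haS : a ∈ (S : Subgroup G) := hSC ▸ mem_centralizer_singleton_iff.mpr rfl
  have haZ : ∀ s ∈ (S : Subgroup G), Commute s a := fun s hs =>
    mem_centralizer_singleton_iff.mp (hSC.ge hs)
  have hyo : orderOf y = 2 := by rw [← hg, orderOf_conj, ha]
  have hay : Commute a y := (haZ y hy).symm
  have hync : ¬ ∀ s ∈ (S : Subgroup G), Commute s y := by
    intro hc
    obtain ⟨n, hn, e⟩ := fusion S haZ hc hg
    rw [hNS] at hn
    rw [(haZ n hn).eq, mul_inv_cancel_right] at e
    exact hya e.symm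
  have hCy2 : IsPGroup 2 (centralizer ({y} : Set G)) := hg ▸ isPGroup_cent_conj g (hSC ▸ S.2)
  have hcard : Nat.card (centralizer ({y} : Set G)) = Nat.card (S : Subgroup G) := by
    rw [← hg, cent_conj, card_map_of_injective (MulAut.conj g).injective, hSC]
  have haa := sq_eq_one ha
  have hyy := sq_eq_one hyo
  have hai : a⁻¹ = a := inv_eq_of_mul_eq_one_right haa
  have hyi : y⁻¹ = y := inv_eq_of_mul_eq_one_right hyy
  -- the four group
  have h1 : a * (a * y) = y := by rw [← mul_assoc, haa, one_mul]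
  have h2 : y * (a * y) = a := by rw [hay.eq, ← mul_assoc, hyy, one_mul]
  have h3 : a * y * a = y := by rw [hay.eq, mul_assoc, haa, mul_one]
  have h4 : a * y * y = a := by rw [mul_assoc, hyy, mul_one]
  have h5 : a * y * (a * y) = 1 := by rw [← mul_assoc, h3, hyy]
  let H : Subgroup G :=
    { carrier := {z | z = 1 ∨ z = a ∨ z = y ∨ z = a * y}
      one_mem' := Or.inl rfl
      mul_mem' := by
        rintro u v (rfl | rfl | rfl | rfl) (rfl | rfl | rfl | rfl) <;>
          simp [haa, hyy, h1, h2, h3, h4, h5, hay.symm.eq]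
      inv_mem' := by
        rintro u (rfl | rfl | rfl | rfl) <;> simp [hai, hyi, hay.symm.eq] }
  have hHS : H ≤ S := by
    rintro z (rfl | rfl | rfl | rfl)
    exacts [one_mem _, haS, hy, mul_mem haS hy]
  have hH1 : H ≠ ⊥ := fun e =>
    ne_one ha (mem_bot.mp (e ▸ (Or.inr (Or.inl rfl) : a ∈ H)))
  have hH2 : IsPGroup 2 H := S.2.to_le hHS
  set M := normalizer (H : Set G) with hM
  have hMc : IsCoatom M := c.max_pGroup hH2 hH1
  set U := centralizer ({a} : Set G) ⊓ centralizer ({y} : Set G) with hU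
  have hUS : U ≤ S := inf_le_left.trans hSC.le
  have hU2 : IsPGroup 2 U := S.2.to_le hUS
  have hfix : ∀ u ∈ U, ∀ z ∈ H, Commute u z := by
    rintro u ⟨hu1, hu2⟩ z (rfl | rfl | rfl | rfl)
    exacts [Commute.one_right u, mem_centralizer_singleton_iff.mp hu1,
      mem_centralizer_singleton_iff.mp hu2,
      Commute.mul_right (mem_centralizer_singleton_iff.mp hu1) (mem_centralizer_singleton_iff.mp hu2)]
  have haH : a ∈ H := Or.inr (Or.inl rfl)
  have hyH : y ∈ H := Or.inr (Or.inr (Or.inl rfl))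
  have haU : a ∈ U :=
    ⟨mem_centralizer_singleton_iff.mpr rfl, mem_centralizer_singleton_iff.mpr hay.eq⟩
  have hU1 : U ≠ ⊥ := fun e => ne_one ha (mem_bot.mp (e ▸ haU))
  have hMU : normalizer (U : Set G) = M := by
    refine c.eq_of_coatom hMc ?_ hU1 (isSolvable_pGroup hU2)
    have key : ∀ m ∈ M, ∀ u ∈ U, m * u * m⁻¹ ∈ U := by
      intro m hm u hu
      have : ∀ z ∈ H, Commute (m * u * m⁻¹) z := fun z hz => by
        have := (hfix u hu _ ((mem_normalizer_iff.mp (inv_mem hm) z).mp hz)).map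
          (MulAut.conj m).toMonoidHom
        simpa [mul_assoc] using this
      exact ⟨mem_centralizer_singleton_iff.mpr (this a haH).eq,
        mem_centralizer_singleton_iff.mpr (this y hyH).eq⟩
    intro m hm
    rw [mem_normalizer_iff]
    intro u
    refine ⟨key m hm u, fun hu => ?_⟩
    have := key _ (inv_mem hm) _ hu
    simpa [mul_assoc] using this
  obtain ⟨w₁, hw₁S, hw₁U, hw₁N⟩ := exists_mem_normalizer S.2 (lt_of_le_of_ne hUS fun e =>
    hync fun s hs => mem_centralizer_singleton_iff.mp (e.ge hs).2)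
  obtain ⟨w₂, hw₂C, hw₂U, hw₂N⟩ := exists_mem_normalizer hCy2 (lt_of_le_of_ne inf_le_right fun e => by
    have hle : centralizer ({y} : Set G) ≤ S := e.ge.trans hUS
    exact hync fun s hs => mem_centralizer_singleton_iff.mp
      ((eq_of_le_of_card_ge hle hcard.ge).ge hs))
  rw [hMU] at hw₁N hw₂N
  have hw₁a : w₁ * a * w₁⁻¹ = a := by rw [(haZ w₁ hw₁S).eq, mul_inv_cancel_right]
  have hw₂y : w₂ * y * w₂⁻¹ = y := by
    rw [mem_centralizer_singleton_iff.mp hw₂C, mul_inv_cancel_right]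
  have hw₁y : w₁ * y * w₁⁻¹ = a * y := by
    rcases (mem_normalizer_iff.mp hw₁N y).mp hyH with e | e | e | e
    · exact absurd (conj_eq_one_iff.mp e) (ne_one hyo)
    · exact absurd (mul_left_cancel (mul_right_cancel (e.trans hw₁a.symm))) hya
    · exact absurd ⟨hSC.ge hw₁S, mem_centralizer_singleton_iff.mpr (mul_inv_eq_iff_eq_mul.mp e)⟩
        hw₁U
    · exact e
  have hw₂a : w₂ * a * w₂⁻¹ = a * y := by
    rcases (mem_normalizer_iff.mp hw₂N a).mp haH with e | e | e | e
    · exact absurd (conj_eq_one_iff.mp e) (ne_one ha)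
    · exact absurd ⟨mem_centralizer_singleton_iff.mpr (mul_inv_eq_iff_eq_mul.mp e), hw₂C⟩ hw₂U
    · exact absurd (mul_left_cancel (mul_right_cancel (e.trans hw₂y.symm))).symm hya
    · exact e
  have hw₁ay : w₁ * (a * y) * w₁⁻¹ = y := by rw [← conj_mul, hw₁a, hw₁y, h1]
  -- a three cycle
  set t := w₁ * w₂ with ht
  have htM : t ∈ M := mul_mem hw₁N hw₂N
  have hta : t * a * t⁻¹ = y := by
    calc t * a * t⁻¹ = w₁ * (w₂ * a * w₂⁻¹) * w₁⁻¹ := by rw [ht]; group
      _ = y := by rw [hw₂a, hw₁ay]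
  have hty : t * y * t⁻¹ = a * y := by
    calc t * y * t⁻¹ = w₁ * (w₂ * y * w₂⁻¹) * w₁⁻¹ := by rw [ht]; group
      _ = a * y := by rw [hw₂y, hw₁y]
  have htay : t * (a * y) * t⁻¹ = a := by rw [← conj_mul, hta, hty, h2]
  have ht3 : t ^ 3 ∈ U := by
    refine ⟨mem_centralizer_singleton_iff.mpr (mul_inv_eq_iff_eq_mul.mp ?_),
      mem_centralizer_singleton_iff.mpr (mul_inv_eq_iff_eq_mul.mp ?_)⟩
    · calc t ^ 3 * a * (t ^ 3)⁻¹ = t * (t * (t * a * t⁻¹) * t⁻¹) * t⁻¹ := by
            rw [pow_three]; group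
        _ = a := by rw [hta, hty, htay]
    · calc t ^ 3 * y * (t ^ 3)⁻¹ = t * (t * (t * y * t⁻¹) * t⁻¹) * t⁻¹ := by
            rw [pow_three]; group
        _ = y := by rw [hty, htay, hta]
  obtain ⟨i, hi⟩ := IsPGroup.iff_orderOf.mp hU2 ⟨_, ht3⟩
  rw [← orderOf_coe] at hi
  have hi4 : (t ^ 3) ^ (4 ^ i) = 1 := by
    rw [← orderOf_dvd_iff_pow_eq_one, hi, show (4 : ℕ) = 2 * 2 from rfl, mul_pow]
    exact dvd_mul_right _ _
  obtain ⟨k, hk⟩ : ∃ k, 4 ^ i = 3 * k + 1 := by
    have : 4 ^ i % 3 = 1 := by rw [Nat.pow_mod]; simp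
    exact ⟨4 ^ i / 3, by omega⟩
  set x := t ^ (4 ^ i) with hxd
  have hxk : x = t * (t ^ 3) ^ k := by rw [hxd, hk, ← pow_mul, ← pow_succ']
  have hxM : x ∈ M := pow_mem htM _
  have hact : ∀ z ∈ H, x * z * x⁻¹ = t * z * t⁻¹ := by
    intro z hz
    have := hfix _ (pow_mem ht3 k) z hz
    rw [hxk]
    calc t * (t ^ 3) ^ k * z * (t * (t ^ 3) ^ k)⁻¹
        = t * ((t ^ 3) ^ k * z * ((t ^ 3) ^ k)⁻¹) * t⁻¹ := by group
      _ = t * z * t⁻¹ := by rw [this.eq, mul_inv_cancel_right]
  have hxa : x * a * x⁻¹ = y := by rw [hact a haH, hta]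
  have hxy : x * y * x⁻¹ = a * y := by rw [hact y hyH, hty]
  have hxay : x * (a * y) * x⁻¹ = a := by rw [← conj_mul, hxa, hxy, h2]
  have hx1 : x ≠ 1 := fun e => hya (by rw [← hxa, e]; group)
  have hx3 : orderOf x = 3 := by
    haveI := Fact.mk Nat.prime_three
    exact orderOf_eq_prime (by rw [hxd, ← pow_mul, mul_comm, pow_mul, hi4]) hx1
  have hxH : x ∈ normalizer (H : Set G) := hxM
  -- no fixed point on `U`
  have hfree : ∀ v ∈ U, Commute v x → v = 1 := by
    intro v hv hvx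
    by_contra hv1
    obtain ⟨j, hj⟩ := IsPGroup.iff_orderOf.mp hU2 ⟨v, hv⟩
    rw [← orderOf_coe] at hj
    rcases j with _ | j
    · exact hv1 (orderOf_eq_one_iff.mp (by simpa using hj))
    have hio : orderOf (v ^ 2 ^ j) = 2 := by
      rw [orderOf_pow' v (pow_ne_zero _ (by norm_num)), hj,
        Nat.gcd_eq_right (pow_dvd_pow 2 j.le_succ), pow_succ, Nat.mul_div_cancel_left _ (by positivity)]
    have hN := c.norm_eq_cent Nat.prime_three (by norm_num) (i := 1) hio (by rw [hx3, pow_one]) hx1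
      (hvx.pow_left _).symm
    have haN : a ∈ normalizer (zpowers x : Set G) := hN ▸ mem_centralizer_singleton_iff.mpr
      (mem_centralizer_singleton_iff.mp ((pow_mem hv (2 ^ j) : v ^ 2 ^ j ∈ U).1)).symm
    have hcm := commute_of_disjoint (inf_eq_bot_of_two hH2 Nat.prime_three (by norm_num) hx3) haH
      (mem_zpowers x) haN hxH
    rw [hcm.symm.eq, mul_inv_cancel_right] at hxa
    exact hya hxa.symm
  -- an involution inverting `x`
  have hw₁ay' : w₁⁻¹ * (a * y) * w₁ = y := by rw [← hw₁y]; group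
  have hw₁y' : w₁⁻¹ * y * w₁ = a * y := by nth_rewrite 1 [← hw₁ay]; group
  have hw₁a' : w₁⁻¹ * a * w₁ = a := by nth_rewrite 1 [← hw₁a]; group
  set u := w₁ * x * w₁⁻¹ * x with hu
  have huU : u ∈ U := by
    refine ⟨mem_centralizer_singleton_iff.mpr (mul_inv_eq_iff_eq_mul.mp ?_),
      mem_centralizer_singleton_iff.mpr (mul_inv_eq_iff_eq_mul.mp ?_)⟩
    · calc u * a * u⁻¹ = w₁ * (x * (w₁⁻¹ * (x * a * x⁻¹) * w₁) * x⁻¹) * w₁⁻¹ := by
            rw [hu]; group
        _ = a := by rw [hxa, hw₁y', hxay, hw₁a]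
    · calc u * y * u⁻¹ = w₁ * (x * (w₁⁻¹ * (x * y * x⁻¹) * w₁) * x⁻¹) * w₁⁻¹ := by
            rw [hu]; group
        _ = y := by rw [hxy, hw₁ay', hxy, hw₁ay]
  have hconjU : ∀ v ∈ U, x⁻¹ * v * x ∈ U := fun v hv => by
    have := (mem_normalizer_iff.mp (hMU.ge (inv_mem hxM)) v).mp hv
    rwa [inv_inv] at this
  let φ : U → U := fun v =>
    ⟨v * (x⁻¹ * (v : G)⁻¹ * x), mul_mem v.2 (hconjU _ (inv_mem v.2))⟩
  have hφ : Function.Injective φ := by
    intro v v' e
    have e1 : (v : G) * (x⁻¹ * (v : G)⁻¹ * x) = v' * (x⁻¹ * (v' : G)⁻¹ * x) :=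
      congrArg Subtype.val e
    have h := hfree ((v' : G)⁻¹ * v) (mul_mem (inv_mem v'.2) v.2) (by
      have e2 : (v' : G)⁻¹ * v = x⁻¹ * ((v' : G)⁻¹ * v) * x := by
        calc (v' : G)⁻¹ * v = (v' : G)⁻¹ * ((v : G) * (x⁻¹ * (v : G)⁻¹ * x)) * (x⁻¹ * v * x) := by
              group
          _ = _ := by rw [e1]; group
      rw [commute_iff_eq]
      nth_rewrite 2 [e2]
      group)
    exact Subtype.ext (inv_mul_eq_one.mp h).symm
  obtain ⟨v, hv⟩ := (Finite.injective_iff_surjective.mp hφ) ⟨u, huU⟩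
  have hv' : (v : G) * (x⁻¹ * (v : G)⁻¹ * x) = u := congrArg Subtype.val hv
  set s := (v : G)⁻¹ * w₁ with hs
  have hsx : s * x * s⁻¹ = x⁻¹ := by
    calc s * x * s⁻¹ = (v : G)⁻¹ * (u * x⁻¹) * v := by rw [hs, hu]; group
      _ = x⁻¹ := by rw [← hv']; group
  have hsa : s * a * s⁻¹ = a := by
    calc s * a * s⁻¹ = (v : G)⁻¹ * (w₁ * a * w₁⁻¹) * v := by rw [hs]; group
      _ = a := by rw [hw₁a, mul_assoc, ← (hfix v v.2 a haH).eq, inv_mul_cancel_left]
  have hsy : s * y * s⁻¹ = a * y := by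
    calc s * y * s⁻¹ = (v : G)⁻¹ * (w₁ * y * w₁⁻¹) * v := by rw [hs]; group
      _ = a * y := by
        rw [hw₁y, mul_assoc, ← (hfix v v.2 _ (mul_mem haH hyH)).eq, inv_mul_cancel_left]
  have hsay : s * (a * y) * s⁻¹ = y := by rw [← conj_mul, hsa, hsy, h1]
  have hs1 : s ≠ 1 := fun e => by
    rw [e, one_mul, inv_one, mul_one, right_eq_mul] at hsy
    exact ne_one ha hsy
  have hss : s * s = 1 := by
    refine hfree _ ⟨mem_centralizer_singleton_iff.mpr (mul_inv_eq_iff_eq_mul.mp ?_),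
      mem_centralizer_singleton_iff.mpr (mul_inv_eq_iff_eq_mul.mp ?_)⟩ (mul_inv_eq_iff_eq_mul.mp ?_)
    · calc s * s * a * (s * s)⁻¹ = s * (s * a * s⁻¹) * s⁻¹ := by group
        _ = a := by rw [hsa, hsa]
    · calc s * s * y * (s * s)⁻¹ = s * (s * y * s⁻¹) * s⁻¹ := by group
        _ = y := by rw [hsy, hsay]
    · calc s * s * x * (s * s)⁻¹ = s * (s * x * s⁻¹) * s⁻¹ := by group
        _ = s * x⁻¹ * s⁻¹ := by rw [hsx]
        _ = (s * x * s⁻¹)⁻¹ := by group
        _ = x := by rw [hsx, inv_inv]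
  -- the order of `S`
  have h16 : 16 ≤ Nat.card (S : Subgroup G) := by
    obtain ⟨e, he⟩ := IsPGroup.iff_card.mp S.2
    have hlt2 : ∀ {A B : Subgroup G}, A < B → IsPGroup 2 B → 2 * Nat.card A ≤ Nat.card B := by
      intro A B hAB hB
      obtain ⟨q, hq⟩ := card_dvd_of_le hAB.le
      rcases q with _ | _ | q
      · exact absurd hq (by simpa using Nat.card_pos.ne')
      · exact absurd (eq_of_le_of_card_ge hAB.le (by rw [hq]; simp)) hAB.ne
      · rw [hq, mul_comm]; exact Nat.mul_le_mul le_rfl (by omega)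
    have hU4 : 4 ≤ Nat.card U := by
      have hyU : y ∈ U :=
        ⟨mem_centralizer_singleton_iff.mpr hay.symm.eq, mem_centralizer_singleton_iff.mpr rfl⟩
      have hlt0 : zpowers a < U := lt_of_le_of_ne (zpowers_le.mpr haU) fun h => by
        obtain ⟨j, hj⟩ := mem_zpowers_iff.mp (h.ge hyU)
        rw [← zpow_mod_orderOf a j, ha] at hj
        have : j % ((2 : ℕ) : ℤ) = 0 ∨ j % ((2 : ℕ) : ℤ) = 1 := by omega
        rcases this with h0 | h0 <;> rw [h0] at hj
        · exact ne_one hyo (by rw [← hj, zpow_zero])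
        · exact hya (by rw [← hj, zpow_one])
      have := hlt2 hlt0 hU2
      rw [Nat.card_zpowers, ha] at this
      omega
    have hlt1 : U < M ⊓ S := lt_of_le_of_ne (le_inf (le_normalizer.trans hMU.le) hUS) fun h =>
      hw₁U (h ▸ ⟨hw₁N, hw₁S⟩)
    have hlt' : M ⊓ S < S := lt_of_le_of_ne inf_le_right fun h => by
      have hle : (S : Subgroup G) ≤ M := inf_eq_right.mp h
      have := (hScoatom.le_iff.mp hle).resolve_left hMc.ne_top
      exact not_orderOf_odd S.2 Nat.prime_three (by norm_num) (this ▸ hxM) (by rw [hx3])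
    have := hlt2 hlt1 (S.2.to_le inf_le_right)
    have := hlt2 hlt' S.2
    omega
  refine three_case c S h16 ha (hSC ▸ S.2) hx3 (orderOf_two hss hs1) hsx
    (mul_inv_eq_iff_eq_mul.mp hsa) ?_
  intro e
  rw [e] at hsy
  rw [hay.eq, mul_inv_cancel_right, left_eq_mul] at hsy
  exact ne_one ha hsy

/-- The centraliser of a central involution is not the normaliser of its Sylow subgroup. -/
theorem caseA (c : Ctx G) (S : Sylow 2 G) {a : G} (ha : orderOf a = 2)
    (haS : a ∈ (S : Subgroup G)) (haZ : ∀ s ∈ (S : Subgroup G), Commute s a)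
    (hCN : centralizer ({a} : Set G) = normalizer ((S : Subgroup G) : Set G)) : False := by
  haveI := Fact.mk Nat.prime_two
  have hiso : ∀ g : G, g * a * g⁻¹ ∈ (S : Subgroup G) → g * a * g⁻¹ = a := by
    intro g hg
    rcases isPGroup_or_exists_odd (centralizer ({a} : Set G)) with h | ⟨p, hp, hp2, x, hx, hxo⟩
    · by_contra hne
      have hle : (S : Subgroup G) ≤ centralizer ({a} : Set G) := hCN ▸ le_normalizer
      have hSC := sylow_eq_of_le S h hle
      exact isolated_two c S ha hSC (hCN.symm.trans hSC) hg rfl hne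
    · have hx1 : x ≠ 1 := fun e => by rw [e, orderOf_one] at hxo; exact hp.ne_one hxo.symm
      have hxa : Commute x a := mem_centralizer_singleton_iff.mp hx
      have hX := c.norm_eq_cent hp hp2 (i := 1) ha (by rw [hxo, pow_one]) hx1 hxa
      have hcomm : ∀ s ∈ (S : Subgroup G), Commute s x := fun s hs =>
        commute_of_disjoint (inf_eq_bot_of_two S.2 hp hp2 hxo) hs (mem_zpowers x)
          (hX.symm ▸ mem_centralizer_singleton_iff.mpr (haZ s hs).eq) (hCN ▸ hx)
      set y := g * a * g⁻¹ with hy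
      have hyo : orderOf y = 2 := by rw [hy, orderOf_conj, ha]
      have hCy := c.norm_eq_cent hp hp2 (i := 1) hyo (by rw [hxo, pow_one]) hx1 (hcomm y hg).symm
      have hyZ : ∀ s ∈ (S : Subgroup G), Commute s y := fun s hs =>
        mem_centralizer_singleton_iff.mp (by
          rw [← hCy, hX]; exact mem_centralizer_singleton_iff.mpr (haZ s hs).eq)
      obtain ⟨n, hn, e⟩ := fusion S haZ hyZ hy.symm
      rw [← hCN, mem_centralizer_singleton_iff] at hn
      rw [hn, mul_inv_cancel_right] at e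
      exact e.symm
  obtain ⟨N, hN, hodd, hcomm⟩ := Cfsg.Agent.S0215.result S a ha haS hiso
  have hbot := c.odd_normal_eq_bot hN hodd
  refine c.cent_ne_top (ne_one ha) (eq_top_iff.mpr fun g _ => ?_)
  have h := hcomm g
  rw [hbot, mem_bot, mul_inv_eq_one, mul_inv_eq_iff_eq_mul] at h
  exact mem_centralizer_singleton_iff.mpr h.symm

end CfsgLib.MaxNormalizer
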