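import Mathlib
import Cfsg.Agent.Lib.MaxNormalizer.CaseA
import Cfsg.Agent.Lib.Critical.Basic
import Cfsg.Agent.Lib.Groups.SelfCentPrime
import Cfsg.Agent.S0949
import Cfsg.Agent.S0508

/-!
A group with maximal normalisers and trivial radical is `PSL_2` of odd order, with Sylow
two-subgroups of order four.
-/

set_option autoImplicit false
set_option linter.style.haveILetI false

open Subgroup

namespace CfsgLib.MaxNormalizer

variable {G : Type*} [Group G] [Finite G]

theorem Ctx.normalizer_cent (c : Ctx G) {a : G} (ha : orderOf a = 2) :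
    normalizer (centralizer ({a} : Set G) : Set G) = centralizer ({a} : Set G) := by
  set N := centralizer ({a} : Set G) with hN
  refine ((c.cent_coatom ha).le_iff.mp le_normalizer).resolve_left fun e => ?_
  haveI hn : N.Normal := normalizer_eq_top_iff.mp e
  have haN : a ∈ N := mem_centralizer_singleton_iff.mpr rfl
  have hcen : Subgroup.center N ≠ ⊥ := fun h0 => by
    have hmem : (⟨a, haN⟩ : N) ∈ Subgroup.center N :=
      mem_center_iff.mpr fun n => Subtype.ext (mem_centralizer_singleton_iff.mp n.2)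
    rw [h0, mem_bot] at hmem
    exact ne_one ha (congrArg Subtype.val hmem)
  refine hcen ((map_eq_bot_iff_of_injective _ N.subtype_injective).mp (c.rad _ inferInstance ?_))
  exact CfsgLib.Coprime.isSolvable_map _
    (Group.isSolvable_of_comm fun u v => Subtype.ext (mem_center_iff.mp v.2 u))

/-- A conjugating element fixing a centraliser lies in it. -/
theorem Ctx.mem_cent_of_conj (c : Ctx G) {a g : G} (ha : orderOf a = 2)
    (h : centralizer ({g * a * g⁻¹} : Set G) = centralizer ({a} : Set G)) :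
    g ∈ centralizer ({a} : Set G) := by
  rw [← c.normalizer_cent ha, mem_normalizer_iff]
  intro z
  conv_rhs => rw [← h, mem_cent_conj]
  simp [mul_assoc]

/-- The data attached to a central involution. -/
theorem central_facts (c : Ctx G) (S : Sylow 2 G) {a : G} (ha : orderOf a = 2)
    (haS : a ∈ (S : Subgroup G)) (haZ : ∀ s ∈ (S : Subgroup G), Commute s a) :
    (centralizer ({a} : Set G) ⊓ normalizer ((S : Subgroup G) : Set G) = (S : Subgroup G)) ∧
      (∃ p x, Nat.Prime p ∧ p ≠ 2 ∧ x ∈ centralizer ({a} : Set G) ∧ orderOf x = p) ∧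
      normalizer ((S : Subgroup G) : Set G) ≠ (S : Subgroup G) := by
  haveI := Fact.mk Nat.prime_two
  have hle : (S : Subgroup G) ≤ centralizer ({a} : Set G) := le_cent_singleton.mpr haZ
  have hS1 : (S : Subgroup G) ≠ ⊥ := S.ne_bot_of_dvd_card c.even_card
  have hNS : IsCoatom (normalizer ((S : Subgroup G) : Set G)) := c.max_pGroup S.2 hS1
  have hne : centralizer ({a} : Set G) ≠ normalizer ((S : Subgroup G) : Set G) :=
    caseA c S ha haS haZ
  have hnotle : ¬ normalizer ((S : Subgroup G) : Set G) ≤ centralizer ({a} : Set G) := fun h =>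
    hne ((hNS.le_iff.mp h).resolve_left (c.cent_coatom ha).ne_top)
  refine ⟨?_, ?_, fun e => hnotle (e.le.trans hle)⟩
  · refine le_antisymm ?_ (le_inf hle le_normalizer)
    refine (sylow_eq_of_le S ?_ (le_inf hle le_normalizer)).le
    refine (isPGroup_or_exists_odd _).resolve_right ?_
    rintro ⟨p, hp, hp2, y, ⟨hya, hyN⟩, hyo⟩
    have hy1 : y ≠ 1 := fun e => by rw [e, orderOf_one] at hyo; exact hp.ne_one hyo.symm
    have hY := c.norm_eq_cent hp hp2 (i := 1) ha (by rw [hyo, pow_one]) hy1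
      (mem_centralizer_singleton_iff.mp hya)
    have hcomm : ∀ s ∈ (S : Subgroup G), Commute s y := fun s hs =>
      commute_of_disjoint (inf_eq_bot_of_two S.2 hp hp2 hyo) hs (mem_zpowers y)
        (hY.symm ▸ hle hs) hyN
    refine hnotle fun g hg => c.mem_cent_of_conj ha ?_
    have hgS : g * a * g⁻¹ ∈ (S : Subgroup G) := (mem_normalizer_iff.mp hg a).mp haS
    rw [← c.norm_eq_cent hp hp2 (i := 1) (by rw [orderOf_conj, ha]) (by rw [hyo, pow_one]) hy1
      (hcomm _ hgS).symm, hY]
  · rcases isPGroup_or_exists_odd (centralizer ({a} : Set G)) with h | ⟨p, hp, hp2, x, hx, hxo⟩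
    · exfalso
      have e := sylow_eq_of_le S h hle
      refine hne (e.trans ?_)
      exact ((e ▸ c.cent_coatom ha : IsCoatom (S : Subgroup G)).le_iff.mp
        le_normalizer).resolve_left hNS.ne_top |>.symm
    · exact ⟨p, x, hp, hp2, hx, hxo⟩

/-- A square root of one among the units of a prime field. -/
theorem units_card_le {p : ℕ} [Fact p.Prime] (n : ℕ) (hn : 0 < n) :
    Nat.card {u : (ZMod p)ˣ // u ^ n = 1} ≤ n := by
  classical
  rw [Nat.card_eq_fintype_card, Fintype.card_subtype]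
  exact IsCyclic.card_pow_eq_one_le hn

/-- The Sylow two-subgroup is a four group, with normaliser of order twelve. -/
theorem sylow_facts (c : Ctx G) (S : Sylow 2 G) :
    Nat.card (S : Subgroup G) = 4 ∧ (∀ s ∈ (S : Subgroup G), s * s = 1) ∧
      Nat.card (normalizer ((S : Subgroup G) : Set G)) = 12 ∧
      (∀ a b : G, a ∈ (S : Subgroup G) → b ∈ (S : Subgroup G) → orderOf a = 2 → orderOf b = 2 →
        ∃ g ∈ normalizer ((S : Subgroup G) : Set G), g * a * g⁻¹ = b) ∧
      (∃ g ∈ normalizer ((S : Subgroup G) : Set G), ∀ s ∈ (S : Subgroup G), s ≠ 1 →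
        g * s * g⁻¹ ≠ s) := by
  classical
  haveI := Fact.mk Nat.prime_two
  obtain ⟨a, ha, haS, haZ⟩ := exists_central_involution c.even_card S
  obtain ⟨-, ⟨p, x, hp, hp2, hxa, hxo⟩, hNS⟩ := central_facts c S ha haS haZ
  obtain ⟨g, hgN, hgS⟩ := SetLike.exists_of_lt (lt_of_le_of_ne
    (le_normalizer : (S : Subgroup G) ≤ normalizer ((S : Subgroup G) : Set G)) (Ne.symm hNS))
  haveI := Fact.mk hp
  have hmove : ∀ i ∈ (S : Subgroup G), orderOf i = 2 → (∀ s ∈ (S : Subgroup G), Commute s i) →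
      ∀ h ∈ normalizer ((S : Subgroup G) : Set G), Commute h i → h ∈ (S : Subgroup G) := by
    intro i hiS hi hiZ h hh hc
    exact (central_facts c S hi hiS hiZ).1.le ⟨mem_centralizer_singleton_iff.mpr hc.eq, hh⟩
  have hgna : ¬ g ∈ centralizer ({a} : Set G) := fun h =>
    hgS (hmove a haS ha haZ g hgN (mem_centralizer_singleton_iff.mp h))
  have hga : orderOf (g * a * g⁻¹) = 2 := by rw [orderOf_conj, ha]
  have hgaS : g * a * g⁻¹ ∈ (S : Subgroup G) := (mem_normalizer_iff.mp hgN a).mp haS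
  set x' := g * x * g⁻¹ with hx'
  have hx'o : orderOf x' = p := by rw [hx', orderOf_conj, hxo]
  have hx1 : x ≠ 1 := fun e => by rw [e, orderOf_one] at hxo; exact hp.ne_one hxo.symm
  have hx'1 : x' ≠ 1 := fun e => by rw [e, orderOf_one] at hx'o; exact hp.ne_one hx'o.symm
  have hX := c.norm_eq_cent hp hp2 (i := 1) ha (by rw [hxo, pow_one]) hx1
    (mem_centralizer_singleton_iff.mp hxa)
  have hX' := c.norm_eq_cent hp hp2 (i := 1) hga (by rw [hx'o, pow_one]) hx'1
    ((show Commute x a from mem_centralizer_singleton_iff.mp hxa).map (MulAut.conj g).toMonoidHom)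
  have hSX : (S : Subgroup G) ≤ normalizer (zpowers x : Set G) :=
    hX.symm ▸ le_cent_singleton.mpr haZ
  have hSX' : (S : Subgroup G) ≤ normalizer (zpowers x' : Set G) := by
    rw [hX']
    intro s hs
    rw [mem_cent_conj]
    have h := (mem_normalizer_iff.mp (inv_mem hgN) s).mp hs
    rw [inv_inv] at h
    exact le_cent_singleton.mpr haZ h
  -- the kernel of the action on both is trivial
  set I := (S : Subgroup G) ⊓ (centralizer ({x} : Set G) ⊓ centralizer ({x'} : Set G)) with hI
  have hIn : (I.subgroupOf (S : Subgroup G)).Normal := by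
    refine ⟨fun u hu s => ?_⟩
    rw [mem_subgroupOf] at hu ⊢
    have key : ∀ y : G, (S : Subgroup G) ≤ normalizer (zpowers y : Set G) →
        (u : G) ∈ centralizer ({y} : Set G) → (s : G) * u * (s : G)⁻¹ ∈ centralizer ({y} : Set G) := by
      intro y hy hu'
      obtain ⟨k, hk⟩ := mem_zpowers_iff.mp
        (conj_mem_of_norm (inv_mem (hy s.2)) (mem_zpowers y))
      rw [inv_inv] at hk
      rw [mem_centralizer_singleton_iff]
      have h1 : Commute (u : G) y := mem_centralizer_singleton_iff.mp hu'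
      calc (s : G) * u * (s : G)⁻¹ * y = s * (u * ((s : G)⁻¹ * y * s)) * (s : G)⁻¹ := by group
        _ = s * (((s : G)⁻¹ * y * s) * u) * (s : G)⁻¹ := by rw [← hk, (h1.zpow_right k).eq]
        _ = y * ((s : G) * u * (s : G)⁻¹) := by group
    exact ⟨(s * u * s⁻¹).2, key x hSX hu.2.1, key x' hSX' hu.2.2⟩
  have hI1 : ∀ i ∈ I, i = 1 := by
    by_contra hcon
    push Not at hcon
    obtain ⟨i, hi, hi1⟩ := hcon
    haveI := S.2.isNilpotent
    haveI := hIn
    have hne : I.subgroupOf (S : Subgroup G) ⊓ Subgroup.center (S : Subgroup G) ≠ ⊥ :=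
      CfsgLib.Critical.inf_center_ne_bot _ fun e => hi1 (by
        have : (⟨i, hi.1⟩ : (S : Subgroup G)) ∈ I.subgroupOf (S : Subgroup G) := mem_subgroupOf.mpr hi
        rw [e, mem_bot] at this
        exact congrArg Subtype.val this)
    haveI := (nontrivial_iff_ne_bot _).mpr hne
    obtain ⟨k, hk⟩ := IsPGroup.iff_card.mp
      (S.2.to_subgroup (I.subgroupOf (S : Subgroup G) ⊓ Subgroup.center (S : Subgroup G)))
    obtain ⟨z, hz⟩ := exists_prime_orderOf_dvd_card'
      (G := ↥(I.subgroupOf (S : Subgroup G) ⊓ Subgroup.center (S : Subgroup G))) 2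
      (hk ▸ dvd_pow_self 2 (by
        rintro rfl
        exact (Finite.one_lt_card
          (α := ↥(I.subgroupOf (S : Subgroup G) ⊓ Subgroup.center (S : Subgroup G)))).ne'
          (by simpa using hk)))
    rw [← orderOf_coe, ← orderOf_coe] at hz
    set w : G := ((z : (S : Subgroup G)) : G) with hw
    have hwI : w ∈ I := mem_subgroupOf.mp z.2.1
    have e1 := c.norm_eq_cent hp hp2 (i := 1) hz (by rw [hxo, pow_one]) hx1
      (mem_centralizer_singleton_iff.mp hwI.2.1).symm
    have e2 := c.norm_eq_cent hp hp2 (i := 1) hz (by rw [hx'o, pow_one]) hx'1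
      (mem_centralizer_singleton_iff.mp hwI.2.2).symm
    rw [hX] at e1
    rw [hX'] at e2
    exact hgna (c.mem_cent_of_conj ha (e2.trans e1.symm))
  -- an embedding into two cyclic groups
  have hemb : ∀ y : G, orderOf y = p → (S : Subgroup G) ≤ normalizer (zpowers y : Set G) →
      ∃ f : (S : Subgroup G) →* (ZMod p)ˣ, ∀ s, f s = 1 → (s : G) ∈ centralizer ({y} : Set G) := by
    intro y hyo hy
    have hcard : Nat.card (zpowers y) = p := by rw [Nat.card_zpowers, hyo]
    refine ⟨((((IsCyclic.mulAutMulEquiv (zpowers y)).trans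
      (Units.mapEquiv (ZMod.ringEquivCongr hcard).toMulEquiv)).toMonoidHom).comp
      (normalizerMonoidHom (zpowers y))).comp (inclusion hy), fun s hs => ?_⟩
    simp only [MonoidHom.comp_apply, MulEquiv.coe_toMonoidHom] at hs
    have hs' := (MulEquiv.map_eq_one_iff _).mp hs
    have hmem : inclusion hy s ∈ (normalizerMonoidHom (zpowers y)).ker := hs'
    rw [normalizerMonoidHom_ker, mem_subgroupOf] at hmem
    exact mem_centralizer_singleton_iff.mpr (hmem y (mem_zpowers y)).symm
  obtain ⟨f, hf⟩ := hemb x hxo hSX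
  obtain ⟨f', hf'⟩ := hemb x' hx'o hSX'
  set ψ := f.prod f' with hψ
  have hψi : Function.Injective ψ := by
    rw [← MonoidHom.ker_eq_bot_iff, eq_bot_iff]
    intro s hs
    rw [MonoidHom.mem_ker, hψ, MonoidHom.prod_apply, Prod.mk_eq_one] at hs
    exact mem_bot.mpr (Subtype.ext (hI1 _ ⟨s.2, hf s hs.1, hf' s hs.2⟩))
  have hab : ∀ u v : (S : Subgroup G), u * v = v * u := fun u v => hψi (by
    rw [map_mul, map_mul, mul_comm])
  have hcen : ∀ i ∈ (S : Subgroup G), ∀ s ∈ (S : Subgroup G), Commute s i := fun i hi s hs =>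
    congrArg Subtype.val (hab ⟨s, hs⟩ ⟨i, hi⟩)
  -- an element of largest order and its conjugate
  haveI : Fintype (S : Subgroup G) := Fintype.ofFinite _
  obtain ⟨s₀, -, hmax⟩ := Finset.exists_max_image (Finset.univ : Finset (S : Subgroup G)) orderOf
    Finset.univ_nonempty
  obtain ⟨k, hk⟩ := IsPGroup.iff_orderOf.mp S.2 s₀
  rw [← orderOf_coe] at hk
  have hexp : ∀ s : (S : Subgroup G), s ^ 2 ^ k = 1 := fun s => by
    obtain ⟨j, hj⟩ := IsPGroup.iff_orderOf.mp S.2 s
    have h1 := hmax s (Finset.mem_univ _)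
    rw [hj, ← orderOf_coe s₀, hk] at h1
    rw [← orderOf_dvd_iff_pow_eq_one, hj]
    exact pow_dvd_pow 2 ((Nat.pow_le_pow_iff_right (by norm_num)).mp h1)
  have hk0 : k ≠ 0 := fun e => by
    have := congrArg Subtype.val (hexp ⟨a, haS⟩)
    simp only [e, pow_zero, pow_one, coe_one] at this
    exact ne_one ha this
  set s : G := (s₀ : G) with hsdef
  set t : G := g * s * g⁻¹ with htdef
  have hsS : s ∈ (S : Subgroup G) := s₀.2
  have htS : t ∈ (S : Subgroup G) := (mem_normalizer_iff.mp hgN s).mp hsS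
  have hto : orderOf t = 2 ^ k := by rw [htdef, orderOf_conj, hk]
  have hind : ∀ i j : ℤ, s ^ i * t ^ j = 1 → ((2 ^ k : ℕ) : ℤ) ∣ i ∧ ((2 ^ k : ℕ) : ℤ) ∣ j := by
    intro i j hij
    have key : ((2 ^ k : ℕ) : ℤ) ∣ i := by
      by_contra hi
      obtain ⟨l, hl⟩ : ∃ l, k = l + 1 := ⟨k - 1, by omega⟩
      set u := s ^ 2 ^ l with hu
      have hu2 : orderOf u = 2 := by
        rw [hu, orderOf_pow' s (pow_ne_zero _ (by norm_num)), hk, hl,
          Nat.gcd_eq_right (pow_dvd_pow 2 l.le_succ), pow_succ, Nat.mul_div_cancel_left _ (by positivity)]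
      -- the unique involution of a cyclic two-group
      have huniq : ∀ z : G, orderOf z = 2 ^ k → ∀ w ∈ zpowers z, orderOf w = 2 → w = z ^ 2 ^ l := by
        intro z hz w hw hw2
        obtain ⟨e, rfl⟩ := mem_zpowers_iff.mp hw
        have h2 : z ^ (e * 2) = 1 := by rw [zpow_mul, zpow_two]; exact sq_eq_one hw2
        rw [← orderOf_dvd_iff_zpow_eq_one, hz, hl, pow_succ] at h2
        push_cast at h2
        have h3 : ((2 : ℤ) ^ l) ∣ e := (mul_dvd_mul_iff_right (by norm_num)).mp h2
        obtain ⟨q, rfl⟩ := h3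
        have hz2 : (z ^ 2 ^ l) ^ 2 = 1 := by
          rw [← pow_mul, ← pow_succ, ← hl, ← hz, pow_orderOf_eq_one]
        rcases Int.even_or_odd q with ⟨r, rfl⟩ | ⟨r, rfl⟩
        · exfalso
          refine ne_one hw2 ?_
          rw [show (2 : ℤ) ^ l * (r + r) = ((2 ^ l : ℕ) : ℤ) * (2 * r) by push_cast; ring, zpow_mul,
            zpow_natCast, zpow_mul, zpow_ofNat, hz2, one_zpow]
        · rw [show (2 : ℤ) ^ l * (2 * r + 1) = ((2 ^ l : ℕ) : ℤ) * (2 * r + 1) by push_cast; ring,
            zpow_mul, zpow_natCast, zpow_add, zpow_mul, zpow_ofNat, hz2, one_zpow, one_mul, zpow_one]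
      have hne : s ^ i ≠ 1 := fun e => hi (hk ▸ orderOf_dvd_iff_zpow_eq_one.mpr e)
      obtain ⟨e, he⟩ := IsPGroup.iff_orderOf.mp S.2 ⟨s ^ i, zpow_mem hsS i⟩
      rw [← orderOf_coe] at he
      rcases e with _ | e
      · exact hne (orderOf_eq_one_iff.mp (by simpa using he))
      set w := (s ^ i) ^ 2 ^ e with hw
      have hw2 : orderOf w = 2 := by
        rw [hw, orderOf_pow' _ (pow_ne_zero _ (by norm_num)), he,
          Nat.gcd_eq_right (pow_dvd_pow 2 e.le_succ), pow_succ, Nat.mul_div_cancel_left _ (by positivity)]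
      have hws : w ∈ zpowers s := pow_mem (zpow_mem (mem_zpowers s) i) _
      have hwt : w ∈ zpowers t := by
        refine pow_mem ?_ _
        rw [eq_inv_of_mul_eq_one_left hij]
        exact inv_mem (zpow_mem (mem_zpowers t) j)
      have e1 := huniq s hk w hws hw2
      have e2 := huniq t hto w hwt hw2
      rw [htdef, conj_pow, ← e1] at e2
      refine hgS (hmove w (pow_mem (zpow_mem hsS i) _) hw2 (hcen w (pow_mem (zpow_mem hsS i) _)) g hgN ?_)
      exact mul_inv_eq_iff_eq_mul.mp e2.symm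
    refine ⟨key, ?_⟩
    have hsi : s ^ i = 1 := orderOf_dvd_iff_zpow_eq_one.mp (hk.symm ▸ key)
    rw [hsi, one_mul] at hij
    exact hto ▸ orderOf_dvd_iff_zpow_eq_one.mpr hij
  haveI : NeZero (2 ^ k) := ⟨by positivity⟩
  -- the homocyclic structure
  let φ : Multiplicative (ZMod (2 ^ k) × ZMod (2 ^ k)) → (S : Subgroup G) := fun z =>
    ⟨s ^ (z.toAdd.1.val : ℤ) * t ^ (z.toAdd.2.val : ℤ), mul_mem (zpow_mem hsS _) (zpow_mem htS _)⟩
  have hpow : ∀ (z : G), orderOf z = 2 ^ k → ∀ u v : ZMod (2 ^ k),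
      z ^ ((u + v).val : ℤ) = z ^ (u.val : ℤ) * z ^ (v.val : ℤ) := by
    intro z hz u v
    rw [← zpow_add, zpow_eq_zpow_iff_modEq, hz, ← ZMod.intCast_eq_intCast_iff]
    push_cast
    simp
  have hst : Commute s t := hcen t htS s hsS
  let Φ : Multiplicative (ZMod (2 ^ k) × ZMod (2 ^ k)) →* (S : Subgroup G) := MonoidHom.mk' φ (by
    intro u v
    refine Subtype.ext ?_
    show s ^ (((u * v).toAdd.1).val : ℤ) * t ^ (((u * v).toAdd.2).val : ℤ) = _
    rw [toAdd_mul, Prod.fst_add, Prod.snd_add, hpow s hk, hpow t hto]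
    show _ = s ^ _ * t ^ _ * (s ^ _ * t ^ _)
    rw [mul_assoc, mul_assoc, ← mul_assoc (s ^ ((v.toAdd.1).val : ℤ)),
      (hst.zpow_zpow ((v.toAdd.1).val : ℤ) ((u.toAdd.2).val : ℤ)).eq, mul_assoc])
  have hΦi : Function.Injective Φ := by
    rw [← MonoidHom.ker_eq_bot_iff, eq_bot_iff]
    intro z hz
    obtain ⟨d1, d2⟩ := hind (z.toAdd.1.val : ℤ) (z.toAdd.2.val : ℤ) (congrArg Subtype.val hz)
    rw [mem_bot]
    have hval : ∀ u : ZMod (2 ^ k), ((2 ^ k : ℕ) : ℤ) ∣ (u.val : ℤ) → u = 0 := fun u hu => by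
      rw [← ZMod.val_eq_zero]
      exact Nat.eq_zero_of_dvd_of_lt (Int.natCast_dvd_natCast.mp hu) (ZMod.val_lt u)
    exact Multiplicative.toAdd.injective (Prod.ext (hval _ d1) (hval _ d2))
  have hcardle : Nat.card (S : Subgroup G) ≤ 2 ^ k * 2 ^ k := by
    let J : ↥(S : Subgroup G) → {u : (ZMod p)ˣ // u ^ 2 ^ k = 1} × {u : (ZMod p)ˣ // u ^ 2 ^ k = 1} :=
      fun u => (⟨f u, by rw [← map_pow, hexp, map_one]⟩, ⟨f' u, by rw [← map_pow, hexp, map_one]⟩)
    refine (Nat.card_le_card_of_injective J fun u v e => hψi ?_).trans ?_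
    · simp only [J, Prod.mk.injEq, Subtype.mk.injEq] at e
      exact Prod.ext e.1 e.2
    · rw [Nat.card_prod]
      exact Nat.mul_le_mul (units_card_le _ (by positivity)) (units_card_le _ (by positivity))
  have hcardM : Nat.card (Multiplicative (ZMod (2 ^ k) × ZMod (2 ^ k))) = 2 ^ k * 2 ^ k := by
    rw [Nat.card_congr Multiplicative.toAdd, Nat.card_prod, Nat.card_zmod]
  have hcardS : Nat.card (S : Subgroup G) = 2 ^ k * 2 ^ k :=
    le_antisymm hcardle (hcardM ▸ Nat.card_le_card_of_injective _ hΦi)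
  have hbij : Function.Bijective Φ :=
    (Nat.bijective_iff_injective_and_card _).mpr ⟨hΦi, by rw [hcardM, hcardS]⟩
  have hk1 : k = 1 := by
    by_contra hk1
    obtain ⟨hn, -, -⟩ := Cfsg.Agent.S0949.result S k (by omega) (MulEquiv.ofBijective Φ hbij).symm
      fun N hN ho => c.odd_normal_eq_bot hN ho
    exact S.ne_bot_of_dvd_card c.even_card (c.rad _ hn (isSolvable_pGroup S.2))
  subst hk1
  rw [show (2 : ℕ) ^ 1 * 2 ^ 1 = 4 by norm_num] at hcardS
  have hsq : ∀ u ∈ (S : Subgroup G), u * u = 1 := fun u hu => by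
    have := congrArg Subtype.val (hexp ⟨u, hu⟩)
    rwa [pow_one, sq] at this
  -- the orbit of an involution
  set y := g * a * g⁻¹ with hy
  set z := g * y * g⁻¹ with hz
  have hord : ∀ u ∈ (S : Subgroup G), u ≠ 1 → orderOf u = 2 := fun u hu h1 =>
    orderOf_two (hsq u hu) h1
  have hfree : ∀ h ∈ normalizer ((S : Subgroup G) : Set G), h ∉ (S : Subgroup G) →
      ∀ u ∈ (S : Subgroup G), u ≠ 1 → h * u * h⁻¹ ≠ u := fun h hh hhS u hu h1 e =>
    hhS (hmove u hu (hord u hu h1) (hcen u hu) h hh (mul_inv_eq_iff_eq_mul.mp e))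
  have hya : y ≠ a := hfree g hgN hgS a haS (ne_one ha)
  have hy1 : y ≠ 1 := ne_one hga
  have hzS : z ∈ (S : Subgroup G) := (mem_normalizer_iff.mp hgN y).mp hgaS
  have hzy : z ≠ y := hfree g hgN hgS y hgaS hy1
  have hz1 : z ≠ 1 := fun e => hy1 (conj_eq_one_iff.mp e)
  have hSel : ∀ u ∈ (S : Subgroup G), u = 1 ∨ u = a ∨ u = y ∨ u = a * y := by
    intro u hu
    by_contra hcon
    push Not at hcon
    have hay1 : a * y ≠ 1 := fun e => hya (by
      rw [mul_eq_one_iff_eq_inv, inv_eq_of_mul_eq_one_right (hsq y hgaS)] at e; exact e.symm)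
    have h5 : ({⟨1, one_mem _⟩, ⟨a, haS⟩, ⟨y, hgaS⟩, ⟨a * y, mul_mem haS hgaS⟩, ⟨u, hu⟩} :
        Finset (S : Subgroup G)).card = 5 := by
      rw [Finset.card_insert_of_notMem, Finset.card_insert_of_notMem, Finset.card_insert_of_notMem,
        Finset.card_insert_of_notMem, Finset.card_singleton] <;>
        simp [(ne_one ha).symm, hy1, hy1.symm, hay1.symm, hya.symm, hcon.1.symm, hcon.2.1.symm,
          hcon.2.2.1.symm, hcon.2.2.2.symm, ne_one ha]
    have := Finset.card_le_univ ({⟨1, one_mem _⟩, ⟨a, haS⟩, ⟨y, hgaS⟩, ⟨a * y, mul_mem haS hgaS⟩,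
        ⟨u, hu⟩} : Finset (S : Subgroup G))
    rw [h5, ← Nat.card_eq_fintype_card, hcardS] at this
    omega
  have hgg : g * g ∈ normalizer ((S : Subgroup G) : Set G) := mul_mem hgN hgN
  have hzay : z = a * y := by
    rcases hSel z hzS with e | e | e | e
    · exact absurd e hz1
    · exfalso
      -- `g` would fix the third involution
      have hayS := mul_mem haS hgaS
      refine hfree g hgN hgS (a * y) hayS (fun h => hya ?_) ?_
      · rw [mul_eq_one_iff_eq_inv, inv_eq_of_mul_eq_one_right (hsq y hgaS)] at h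
        exact h.symm
      · rw [← conj_mul, ← hy, ← hz, e]
        exact (hcen a haS y hgaS).eq
    · exact absurd e hzy
    · exact e
  have htrans : ∀ u v : G, u ∈ (S : Subgroup G) → v ∈ (S : Subgroup G) → orderOf u = 2 →
      orderOf v = 2 → ∃ h ∈ normalizer ((S : Subgroup G) : Set G), h * u * h⁻¹ = v := by
    have horb : ∀ v ∈ (S : Subgroup G), orderOf v = 2 →
        ∃ h ∈ normalizer ((S : Subgroup G) : Set G), h * a * h⁻¹ = v := by
      intro v hv hv2
      rcases hSel v hv with rfl | rfl | rfl | rfl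
      · exact absurd rfl (ne_one hv2)
      · exact ⟨1, one_mem _, by group⟩
      · exact ⟨g, hgN, rfl⟩
      · exact ⟨g * g, hgg, by rw [← hzay, hz, hy]; group⟩
    intro u v hu hv hu2 hv2
    obtain ⟨h₁, hh₁, rfl⟩ := horb u hu hu2
    obtain ⟨h₂, hh₂, rfl⟩ := horb v hv hv2
    exact ⟨h₂ * h₁⁻¹, mul_mem hh₂ (inv_mem hh₁), by group⟩
  refine ⟨hcardS, hsq, ?_, htrans, g, hgN, hfree g hgN hgS⟩
  let F : Fin 3 × (S : Subgroup G) → normalizer ((S : Subgroup G) : Set G) := fun w =>
    ⟨g ^ (w.1 : ℕ) * w.2, mul_mem (pow_mem hgN _) (le_normalizer w.2.2)⟩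
  have himg : ∀ i : Fin 3, g ^ (i : ℕ) * a * (g ^ (i : ℕ))⁻¹ = ![a, y, z] i := by
    intro i
    fin_cases i <;> simp [hy, hz, pow_succ] <;> group
  have hav : Function.Injective (![a, y, z] : Fin 3 → G) := by
    have hza : z ≠ a := fun e => by
      rw [hzay, mul_eq_left] at e
      exact hy1 e
    intro i j e
    fin_cases i <;> fin_cases j <;>
      simp [hya, hya.symm, hzy, hzy.symm, hza, hza.symm] at e ⊢
  have himg' : ∀ (i : Fin 3) (u : (S : Subgroup G)),
      g ^ (i : ℕ) * u * a * (g ^ (i : ℕ) * u)⁻¹ = ![a, y, z] i := fun i u => by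
    rw [← himg i]
    calc g ^ (i : ℕ) * (u : G) * a * (g ^ (i : ℕ) * (u : G))⁻¹
        = g ^ (i : ℕ) * ((u : G) * a * (u : G)⁻¹) * (g ^ (i : ℕ))⁻¹ := by group
      _ = _ := by rw [(haZ u u.2).eq, mul_inv_cancel_right]
  have hF : Function.Bijective F := by
    refine ⟨fun w w' e => ?_, fun h => ?_⟩
    · have e' : g ^ (w.1 : ℕ) * (w.2 : G) = g ^ (w'.1 : ℕ) * w'.2 := congrArg Subtype.val e
      have h1 : w.1 = w'.1 := hav (by rw [← himg' w.1 w.2, ← himg' w'.1 w'.2, e'])
      rw [h1] at e'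
      exact Prod.ext h1 (Subtype.ext (mul_left_cancel e'))
    · have hha := (mem_normalizer_iff.mp h.2 a).mp haS
      obtain ⟨i, hi⟩ : ∃ i : Fin 3, (h : G) * a * (h : G)⁻¹ = ![a, y, z] i := by
        rcases hSel _ hha with e | e | e | e
        · exact absurd (conj_eq_one_iff.mp e) (ne_one ha)
        · exact ⟨0, e⟩
        · exact ⟨1, e⟩
        · exact ⟨2, e.trans hzay.symm⟩
      have h1 : (g ^ (i : ℕ))⁻¹ * (h : G) ∈ (S : Subgroup G) := by
        refine hmove a haS ha haZ _ (mul_mem (inv_mem (pow_mem hgN _)) h.2) (mul_inv_eq_iff_eq_mul.mp ?_)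
        calc (g ^ (i : ℕ))⁻¹ * (h : G) * a * ((g ^ (i : ℕ))⁻¹ * (h : G))⁻¹
            = (g ^ (i : ℕ))⁻¹ * ((h : G) * a * (h : G)⁻¹) * g ^ (i : ℕ) := by group
          _ = a := by rw [hi, ← himg i]; group
      exact ⟨(i, ⟨_, h1⟩), Subtype.ext (mul_inv_cancel_left _ _)⟩
  rw [← Nat.card_eq_of_bijective F hF, Nat.card_prod, Nat.card_fin, hcardS]

/-- A group of odd order with a fixed point free involution is inverted by it. -/
theorem inverts_of_fpf {v : G} (hvv : v * v = 1) {A : Subgroup G}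
    (hA : ∀ u ∈ A, v * u * v⁻¹ ∈ A) (hfix : ∀ u ∈ A, Commute v u → u = 1) :
    ∀ u ∈ A, v * u * v⁻¹ = u⁻¹ := by
  let f : A →* A :=
    { toFun := fun u => ⟨v * u * v⁻¹, hA u u.2⟩
      map_one' := Subtype.ext (by simp)
      map_mul' := fun u w => Subtype.ext (by simp [mul_assoc]) }
  have hfp : MonoidHom.FixedPointFree f := fun u hu =>
    Subtype.ext (hfix u u.2 (mul_inv_eq_iff_eq_mul.mp (congrArg Subtype.val hu)))
  have hinv : Function.Involutive f := fun u => Subtype.ext (by
    show v * (v * (u : G) * v⁻¹) * v⁻¹ = u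
    rw [inv_eq_of_mul_eq_one_right hvv]
    calc v * (v * (u : G) * v) * v = (v * v) * u * (v * v) := by group
      _ = u := by rw [hvv, one_mul, mul_one])
  intro u hu
  exact congrArg Subtype.val (congrFun (hfp.coe_eq_inv_of_involutive hinv) ⟨u, hu⟩)

/-- First part of the theorem: the group modulo its radical. -/
theorem partI (c : Ctx G) :
    (∀ V : Subgroup G, Nat.card V = 4 → Nat.card (normalizer (V : Set G)) = 12 ∧
      ∃ g ∈ normalizer (V : Set G), ∀ s ∈ V, s ≠ 1 → g * s * g⁻¹ ≠ s) ∧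
    (∀ S : Sylow 2 G, Nat.card (S : Subgroup G) = 4) ∧
    (∃ (p : ℕ) (z : G), p.Prime ∧ p ≠ 2 ∧ orderOf z = 2 * p) ∧
    IsSimpleGroup G ∧
    ∃ (F : Type) (_ : Field F) (_ : Fintype F), Odd (Fintype.card F) ∧
      Nonempty (G ≃* Matrix.ProjectiveSpecialLinearGroup (Fin 2) F) := by
  classical
  haveI := Fact.mk Nat.prime_two
  obtain ⟨S⟩ := (inferInstance : Nonempty (Sylow 2 G))
  obtain ⟨a, ha, haS, haZ⟩ := exists_central_involution c.even_card S
  obtain ⟨hSN, ⟨p, x, hp, hp2, hxa, hxo⟩, -⟩ := central_facts c S ha haS haZ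
  obtain ⟨h4, hsq, h12, htrans, g₀, hg₀, hfree⟩ := sylow_facts c S
  have hall4 : ∀ T : Sylow 2 G, Nat.card (T : Subgroup G) = 4 := fun T => (sylow_facts c T).1
  have hV : ∀ V : Subgroup G, Nat.card V = 4 → Nat.card (normalizer (V : Set G)) = 12 ∧
      ∃ g ∈ normalizer (V : Set G), ∀ s ∈ V, s ≠ 1 → g * s * g⁻¹ ≠ s := by
    intro V hV4
    obtain ⟨T, hT⟩ := (IsPGroup.of_card (n := 2) (p := 2) hV4).exists_le_sylow
    obtain rfl : V = (T : Subgroup G) :=
      eq_of_le_of_card_ge hT (by rw [hall4 T, hV4])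
    obtain ⟨-, -, h12', -, h⟩ := sylow_facts c T
    exact ⟨h12', h⟩
  have hle : (S : Subgroup G) ≤ centralizer ({a} : Set G) := le_cent_singleton.mpr haZ
  have hcen : ∀ u ∈ (S : Subgroup G), ∀ w ∈ (S : Subgroup G), Commute w u := by
    intro u hu w hw
    have h1 := hsq _ (mul_mem hu hw)
    show w * u = u * w
    calc w * u = (u * u) * (w * u) * (w * w) := by rw [hsq u hu, hsq w hw, one_mul, mul_one]
      _ = u * (u * w * (u * w)) * w := by group
      _ = u * w := by rw [h1, mul_one]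
  have hord : ∀ u ∈ (S : Subgroup G), u ≠ 1 → orderOf u = 2 := fun u hu h1 =>
    orderOf_two (hsq u hu) h1
  have hCS : centralizer ((S : Subgroup G) : Set G) = (S : Subgroup G) := by
    refine le_antisymm (fun w hw => hSN.le ⟨?_, centralizer_le_normalizer _ hw⟩)
      fun w hw u hu => (hcen w hw u hu).eq
    exact mem_centralizer_singleton_iff.mpr (hw a haS).symm
  have hinvol : ∀ w : G, orderOf w = 2 → ∃ h : G, h * w * h⁻¹ = a := by
    intro w hw
    obtain ⟨T, hT⟩ := (isPGroup_zpowers (p := 2) (k := 1) (by rw [hw, pow_one])).exists_le_sylow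
    obtain ⟨h, hh⟩ := MulAction.exists_smul_eq G T S
    have hwS : h * w * h⁻¹ ∈ (S : Subgroup G) := by
      rw [← hh, Sylow.coe_subgroup_smul]
      exact ⟨w, hT (mem_zpowers w), by simp⟩
    obtain ⟨n, -, hn⟩ := htrans _ a hwS haS (by rw [orderOf_conj, hw]) ha
    exact ⟨n * h, by rw [← hn]; group⟩
  -- a four group centralises nothing of odd order
  have hxz : Commute x a := mem_centralizer_singleton_iff.mp hxa
  have hCab : ∀ b ∈ (S : Subgroup G), b ≠ 1 → b ≠ a → ∀ (q : ℕ) (y : G), q.Prime → q ≠ 2 →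
      orderOf y = q → Commute y a → ¬ Commute y b := by
    intro b hb hb1 hba q y hq hq2 hyo hya hyb
    have hy1 : y ≠ 1 := fun e => by rw [e, orderOf_one] at hyo; exact hq.ne_one hyo.symm
    obtain ⟨n, -, hn⟩ := htrans a b haS hb ha (hord b hb hb1)
    have e1 := c.norm_eq_cent hq hq2 (i := 1) ha (by rw [hyo, pow_one]) hy1 hya
    have e2 := c.norm_eq_cent hq hq2 (i := 1) (hord b hb hb1) (by rw [hyo, pow_one]) hy1 hyb
    have h := c.mem_cent_of_conj ha (g := n) (by rw [hn, ← e2, e1])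
    rw [mem_centralizer_singleton_iff] at h
    rw [h, mul_inv_cancel_right] at hn
    exact hba hn.symm
  -- the centraliser of `a`
  set C := centralizer ({a} : Set G) with hC
  set P : Sylow 2 C := S.subtype hle with hP
  have hPc : normalizer ((P : Subgroup C) : Set C) ≤ centralizer ((P : Subgroup C) : Set C) := by
    intro w hw u hu
    have hwS : (w : G) ∈ (S : Subgroup G) := by
      refine hSN.le ⟨w.2, mem_normalizer_iff.mpr fun u' => ?_⟩
      have key : ∀ y : C, y ∈ (P : Subgroup C) ↔ (y : G) ∈ (S : Subgroup G) := fun y => by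
        rw [hP, Sylow.coe_subtype, mem_subgroupOf]
      constructor
      · intro hu'
        exact (key _).mp ((mem_normalizer_iff.mp hw ⟨u', hle hu'⟩).mp ((key _).mpr hu'))
      · intro hu'
        have hu'' : u' ∈ C := by
          have := mul_mem (mul_mem (inv_mem w.2) (hle hu')) w.2
          rwa [show (w : G)⁻¹ * ((w : G) * u' * (w : G)⁻¹) * w = u' by group] at this
        exact (key ⟨u', hu''⟩).mp ((mem_normalizer_iff.mp hw ⟨u', hu''⟩).mpr ((key _).mpr hu'))
    exact Subtype.ext (hcen w hwS (u : G) hu).eq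
  set K := (MonoidHom.transferSylow P hPc).ker with hK
  have hKc : IsComplement' K (P : Subgroup C) := MonoidHom.ker_transferSylow_isComplement' P hPc
  have hPcard : Nat.card (P : Subgroup C) = 4 := by
    rw [hP, Sylow.coe_subtype, Nat.card_congr (subgroupOfEquivOfLe hle).toEquiv, h4]
  have hKodd : Odd (Nat.card K) := by
    rw [Nat.odd_iff, ← Nat.two_dvd_ne_zero, ← hKc.index_eq_card]
    exact P.not_dvd_index
  have hmemK : ∀ y : C, Odd (orderOf y) → y ∈ K := by
    intro y hy
    haveI : K.Normal := by rw [hK]; infer_instance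
    have h1 : orderOf (y : C ⧸ K) ∣ orderOf y := orderOf_map_dvd (QuotientGroup.mk' K) y
    have h2 : orderOf (y : C ⧸ K) ∣ 4 := by
      rw [← hPcard, ← hKc.symm.index_eq_card]
      exact orderOf_dvd_natCard _
    have h3 : orderOf (y : C ⧸ K) = 1 := by
      have h5 : Odd (orderOf (y : C ⧸ K)) := Odd.of_dvd_nat hy h1
      rcases (Nat.dvd_prime_pow Nat.prime_two).mp (show orderOf (y : C ⧸ K) ∣ 2 ^ 2 from h2) with
        ⟨j, hj, e⟩
      rcases j with _ | j
      · simpa using e
      · rw [e, pow_succ] at h5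
        exact absurd h5 (by simp [parity_simps])
    exact (QuotientGroup.eq_one_iff y).mp (orderOf_eq_one_iff.mp h3)
  set O := K.map C.subtype with hO
  have hOC : O ≤ C := map_subtype_le _
  have hOodd : Odd (Nat.card O) := by rwa [hO, card_map_of_injective C.subtype_injective]
  have hxO : x ∈ O := ⟨⟨x, hxa⟩, hmemK _ (by
    rw [orderOf_mk, hxo]; exact hp.odd_of_ne_two hp2), rfl⟩
  have hOS : ∀ u ∈ O, u ∈ (S : Subgroup G) → u = 1 := fun u hu huS => by
    by_contra hu1
    have h2 : 2 ∣ Nat.card O := by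
      rw [← hord u huS hu1, ← orderOf_mk u hu]
      exact orderOf_dvd_natCard _
    exact Nat.not_even_iff_odd.mpr hOodd (even_iff_two_dvd.mpr h2)
  have hnormO : C ≤ normalizer (O : Set G) := by
    haveI : K.Normal := by rw [hK]; infer_instance
    exact (normal_subgroupOf_iff_le_normalizer hOC).mp (by
      rw [hO, Subgroup.subgroupOf, comap_map_eq_self_of_injective C.subtype_injective]; infer_instance)
  have hfpf : ∀ b ∈ (S : Subgroup G), b ≠ 1 → b ≠ a → ∀ u ∈ O, Commute b u → u = 1 := by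
    intro b hb hb1 hba u hu hbu
    by_contra hu1
    obtain ⟨q, hq, hqu⟩ := Nat.exists_prime_and_dvd (fun h => hu1 (orderOf_eq_one_iff.mp h))
    have hq2 : q ≠ 2 := fun e => by
      have : 2 ∣ Nat.card O := (e ▸ hqu).trans (orderOf_mk u hu ▸ orderOf_dvd_natCard _)
      exact Nat.not_even_iff_odd.mpr hOodd (even_iff_two_dvd.mpr this)
    exact hCab b hb hb1 hba q _ hq hq2 (orderOf_pow_orderOf_div (orderOf_pos u).ne' hqu)
      ((show Commute u a from mem_centralizer_singleton_iff.mp (hOC hu)).pow_left _) (hbu.symm.pow_left _)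
  have hconjO : ∀ b ∈ (S : Subgroup G), ∀ u ∈ O, b * u * b⁻¹ ∈ O := fun b hb u hu =>
    (mem_normalizer_iff.mp (hnormO (hle hb)) u).mp hu
  have hinv : ∀ b ∈ (S : Subgroup G), b ≠ 1 → b ≠ a → ∀ u ∈ O, b * u * b⁻¹ = u⁻¹ :=
    fun b hb hb1 hba => inverts_of_fpf (hsq b hb) (hconjO b hb) (hfpf b hb hb1 hba)
  obtain ⟨b, hb, hb1, hba⟩ : ∃ b ∈ (S : Subgroup G), b ≠ 1 ∧ b ≠ a := by
    refine ⟨g₀ * a * g₀⁻¹, (mem_normalizer_iff.mp hg₀ a).mp haS,
      fun e => ne_one ha (conj_eq_one_iff.mp e), hfree a haS (ne_one ha)⟩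
  -- simplicity
  have hsimple : IsSimpleGroup G := by
    haveI : Nontrivial G := ⟨⟨a, 1, ne_one ha⟩⟩
    refine ⟨fun M hM => or_iff_not_imp_left.mpr fun hM1 => ?_⟩
    have h2M : 2 ∣ Nat.card M := even_iff_two_dvd.mp (Nat.not_odd_iff_even.mp fun h =>
      hM1 (c.odd_normal_eq_bot hM h))
    obtain ⟨w, hw⟩ := exists_prime_orderOf_dvd_card' (G := M) 2 h2M
    rw [← orderOf_coe] at hw
    obtain ⟨h, hh⟩ := hinvol w hw
    have haM : a ∈ M := hh ▸ hM.conj_mem w w.2 h
    have hSM : (S : Subgroup G) ≤ M := fun u hu => by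
      by_cases hu1 : u = 1
      · exact hu1 ▸ one_mem M
      obtain ⟨n, -, hn⟩ := htrans a u haS hu ha (hord u hu hu1)
      exact hn ▸ hM.conj_mem a haM n
    have hdvd1 := card_dvd_of_le (le_inf hSM
      (le_normalizer : (S : Subgroup G) ≤ normalizer ((S : Subgroup G) : Set G)))
    have hdvd2 : Nat.card ↥(M ⊓ normalizer ((S : Subgroup G) : Set G)) ∣ 12 :=
      h12 ▸ card_dvd_of_le inf_le_right
    rw [h4] at hdvd1
    have hcases : Nat.card ↥(M ⊓ normalizer ((S : Subgroup G) : Set G)) = 4 ∨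
        Nat.card ↥(M ⊓ normalizer ((S : Subgroup G) : Set G)) = 12 := by
      obtain ⟨q, hq⟩ := hdvd1
      rw [hq] at hdvd2 ⊢
      have : q ∣ 3 := (Nat.mul_dvd_mul_iff_left (by norm_num)).mp (show 4 * q ∣ 4 * 3 from hdvd2)
      rcases (Nat.dvd_prime Nat.prime_three).mp this with rfl | rfl <;> norm_num
    rcases hcases with e | e
    · exfalso
      have heq : (S : Subgroup G) = M ⊓ normalizer ((S : Subgroup G) : Set G) :=
        eq_of_le_of_card_ge (le_inf hSM le_normalizer) (by rw [e, h4])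
      set Q : Sylow 2 M := S.subtype hSM with hQ
      have hQc : normalizer ((Q : Subgroup M) : Set M) ≤ centralizer ((Q : Subgroup M) : Set M) := by
        intro u hu v hv
        have key : ∀ y : M, y ∈ (Q : Subgroup M) ↔ (y : G) ∈ (S : Subgroup G) := fun y => by
          rw [hQ, Sylow.coe_subtype, mem_subgroupOf]
        have huS : (u : G) ∈ (S : Subgroup G) := heq.ge ⟨u.2, mem_normalizer_iff.mpr fun u' => by
          constructor
          · intro hu'
            exact (key _).mp ((mem_normalizer_iff.mp hu ⟨u', hSM hu'⟩).mp ((key _).mpr hu'))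
          · intro hu'
            have hu'' : u' ∈ M := by
              have := mul_mem (mul_mem (inv_mem u.2) (hSM hu')) u.2
              rwa [show (u : G)⁻¹ * ((u : G) * u' * (u : G)⁻¹) * u = u' by group] at this
            exact (key ⟨u', hu''⟩).mp ((mem_normalizer_iff.mp hu ⟨u', hu''⟩).mpr ((key _).mpr hu'))⟩
        exact Subtype.ext (hcen u huS (v : G) ((key v).mp hv)).eq
      have hc' := MonoidHom.ker_transferSylow_isComplement' Q hQc
      set L := (MonoidHom.transferSylow Q hQc).ker with hL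
      have hLodd : ¬ 2 ∣ Nat.card L :=
        (hc'.index_eq_card : (Q : Subgroup M).index = Nat.card L) ▸ Q.not_dvd_index
      haveI : L.Normal := by rw [hL]; infer_instance
      haveI := hM
      have hchar : L.Characteristic := by
        refine characteristic_iff_map_le.mpr fun φ => ?_
        rintro _ ⟨l, hl, rfl⟩
        have h1 : orderOf ((φ l : M) : M ⧸ L) ∣ 4 := by
          have e4 : Nat.card (Q : Subgroup M) = 4 := by
            rw [hQ, Sylow.coe_subtype, Nat.card_congr (subgroupOfEquivOfLe hSM).toEquiv, h4]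
          rw [← e4, ← hc'.symm.index_eq_card]
          exact orderOf_dvd_natCard _
        have h2 : orderOf ((φ l : M) : M ⧸ L) ∣ Nat.card L := by
          refine (orderOf_map_dvd (QuotientGroup.mk' L) (φ l)).trans ?_
          exact (dvd_of_eq ((φ.orderOf_eq l).trans (orderOf_mk l hl).symm)).trans
            (orderOf_dvd_natCard _)
        have h3 : Nat.Coprime 4 (Nat.card L) :=
          Nat.Coprime.pow_left 2 ((Nat.prime_two.coprime_iff_not_dvd).mpr hLodd)
        exact (QuotientGroup.eq_one_iff _).mp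
          (orderOf_eq_one_iff.mp (Nat.eq_one_of_dvd_coprimes h3 h1 h2))
      haveI := hchar
      have hL1 : L = ⊥ := (map_eq_bot_iff_of_injective _ M.subtype_injective).mp
        (c.odd_normal_eq_bot (ConjAct.normal_of_characteristic_of_normal)
          (by rw [card_map_of_injective M.subtype_injective, Nat.odd_iff]
              exact Nat.two_dvd_ne_zero.mp hLodd))
      have hcard : Nat.card M = 4 := by
        rw [← hc'.card_mul, hL1, card_bot, one_mul, Sylow.coe_subtype,
          Nat.card_congr (subgroupOfEquivOfLe hSM).toEquiv, h4]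
      exact hM1 (c.rad M hM (isSolvable_pGroup (IsPGroup.of_card (p := 2) (n := 2) hcard)))
    · have hNM : normalizer ((S : Subgroup G) : Set G) ≤ M :=
        inf_eq_right.mp (eq_of_le_of_card_ge inf_le_right (by rw [e, h12]))
      haveI := hM
      have := Sylow.normalizer_sup_eq_top' S hSM
      exact top_le_iff.mp (this.ge.trans (sup_le hNM le_rfl))
  haveI := hsimple
  refine ⟨hV, hall4, ⟨p, x * a, hp, hp2, ?_⟩, hsimple, ?_⟩
  · rw [hxz.orderOf_mul_eq_mul_orderOf_of_coprime (by
      rw [hxo, ha]; exact (Nat.coprime_primes hp Nat.prime_two).mpr hp2), hxo, ha, mul_comm]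
  -- the characterisation by centralisers of involutions
  have hK4 : IsKleinFour (S : Subgroup G) := by
    haveI : Nontrivial (S : Subgroup G) := Finite.one_lt_card_iff_nontrivial.mp (by rw [h4]; norm_num)
    refine ⟨h4, (Monoid.exponent_eq_prime_iff Nat.prime_two).mpr fun u hu => ?_⟩
    exact orderOf_two (Subtype.ext (hsq u u.2)) hu
  haveI := hK4
  have hOeq : O = (Cfsg.oddCore C).map C.subtype := by
    haveI : K.Normal := by rw [hK]; infer_instance
    rw [hO]
    congr 1
    refine le_antisymm (CfsgLib.SelfCent.le_pPrimeCore inferInstance ?_) fun y hy => ?_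
    · exact Nat.coprime_two_right.mpr hKodd
    · refine hmemK y (Odd.of_dvd_nat (Nat.coprime_two_right.mp
        (CfsgLib.SelfCent.pPrimeCore_coprime (G := C) 2)) ?_)
      rw [← orderOf_mk y hy]
      exact orderOf_dvd_natCard _
  have hTeq : (S : Subgroup G) ⊓ centralizer (O : Set G) = zpowers a := by
    refine le_antisymm (fun u hu => ?_) (zpowers_le.mpr ⟨haS, fun w hw =>
      mem_centralizer_singleton_iff.mp (hOC hw)⟩)
    by_cases hu1 : u = 1
    · exact hu1 ▸ one_mem _
    by_cases hua : u = a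
    · exact hua ▸ mem_zpowers a
    exfalso
    have := hfpf u hu.1 hu1 hua x hxO (hu.2 x hxO).symm
    rw [this, orderOf_one] at hxo
    exact hp.ne_one hxo.symm
  refine Cfsg.Agent.S0508.result S 2 le_rfl IsKleinFour.nonempty_mulEquiv a ha haS
    (fun u hu => (haZ u hu).eq) O hOeq (fun _ => ?_) (fun u hu huO => ?_) (fun Y hY hY1 => ?_)
  · rw [hTeq]
    refine ⟨inferInstance, ?_⟩
    have h := card_mul_index ((zpowers a).subgroupOf (S : Subgroup G))
    rw [Nat.card_congr (subgroupOfEquivOfLe (zpowers_le.mpr haS)).toEquiv, Nat.card_zpowers, ha,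
      h4] at h
    show ((zpowers a).subgroupOf (S : Subgroup G)).index = 2
    omega
  · refine hinv u hu (fun e => huO (e ▸ one_mem _)) (fun e => huO (e ▸ ?_))
    exact fun w hw => mem_centralizer_singleton_iff.mp (hOC hw)
  · have hYs : Group.IsSolvable Y := Group.isSolvable_of_comm fun u v => Subtype.ext (by
      have e1 := hinv b hb hb1 hba _ (mul_mem (hY u.2) (hY v.2))
      rw [← conj_mul, hinv b hb hb1 hba _ (hY u.2), hinv b hb hb1 hba _ (hY v.2), mul_inv_rev] at e1
      show (u : G) * v = v * u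
      have e2 := congrArg (·⁻¹) e1
      simpa [mul_inv_rev] using e2.symm)
    refine (c.eq_of_coatom (c.cent_coatom ha) ?_ hY1 hYs).le
    -- elements of `C` are `u * w` with `u ∈ O`, `w ∈ S`
    intro g hg
    obtain ⟨⟨u, w⟩, huw⟩ := hKc.2 (⟨g, hg⟩ : C)
    have hg' : g = ((u : C) : G) * ((w : C) : G) := congrArg Subtype.val huw.symm
    have huO : ((u : C) : G) ∈ O := ⟨u, u.2, rfl⟩
    have hwS : ((w : C) : G) ∈ (S : Subgroup G) := w.2
    rw [hg']
    refine mul_mem ?_ ?_
    · refine centralizer_le_normalizer _ fun v hv => ?_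
      have e1 := hinv b hb hb1 hba _ (mul_mem (hY hv) huO)
      rw [← conj_mul, hinv b hb hb1 hba _ (hY hv), hinv b hb hb1 hba _ huO, mul_inv_rev] at e1
      have e2 := congrArg (·⁻¹) e1
      simpa [mul_inv_rev] using e2.symm
    · refine mem_normalizer_iff.mpr fun v => ?_
      have key : ∀ v ∈ Y, ((w : C) : G) * v * ((w : C) : G)⁻¹ ∈ Y := by
        intro v hv
        by_cases hw1 : ((w : C) : G) = 1
        · simpa [hw1] using hv
        by_cases hwa : ((w : C) : G) = a
        · rw [hwa, ← (show Commute v a from mem_centralizer_singleton_iff.mp (hOC (hY hv))).eq,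
            mul_inv_cancel_right]
          exact hv
        · rw [hinv _ hwS hw1 hwa v (hY hv)]
          exact inv_mem hv
      refine ⟨key v, fun h => ?_⟩
      have hww := sq_eq_one (a := ((w : C) : G))
      by_cases hw1 : ((w : C) : G) = 1
      · simpa [hw1] using h
      have h' := key _ h
      have hi : ((w : C) : G)⁻¹ = (w : C) := inv_eq_of_mul_eq_one_right (hsq _ hwS)
      rwa [hi, show ((w : C) : G) * (((w : C) : G) * v * (w : C)) * (w : C) =
        (((w : C) : G) * (w : C)) * v * (((w : C) : G) * (w : C)) by group, hsq _ hwS, one_mul,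
        mul_one] at h'

end CfsgLib.MaxNormalizer
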