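import Mathlib
import Cfsg.Agent.Lib.Schur.SLTwo
import Cfsg.Agent.Lib.StemExt.Basic
import Cfsg.Agent.Lib.Classical.Transvection
import Cfsg.Agent.Lib.SL2.PSL

/-!
Perfect central extensions of `PSL_2(13)`.
-/

set_option autoImplicit false
set_option linter.style.haveILetI false

open Subgroup
open scoped MatrixGroups commutatorElement

namespace CfsgLib.MaxNormalizer

instance fact_prime_thirteen : Fact (Nat.Prime 13) := ⟨by norm_num⟩

theorem commutatorElement_mul_central {P : Type*} [Group P] {c c' : P} (hc : ∀ y, Commute c y)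
    (hc' : ∀ y, Commute c' y) (d d' : P) : ⁅d * c, d' * c'⁆ = ⁅d, d'⁆ := by
  rw [commutatorElement_def, commutatorElement_def, mul_inv_rev, mul_inv_rev]
  calc d * c * (d' * c') * (c⁻¹ * d⁻¹) * (c'⁻¹ * d'⁻¹)
      = d * (c * (d' * c')) * c⁻¹ * d⁻¹ * c'⁻¹ * d'⁻¹ := by group
    _ = d * d' * (c' * d⁻¹) * c'⁻¹ * d'⁻¹ := by rw [(hc (d' * c')).eq]; group
    _ = d * d' * d⁻¹ * d'⁻¹ := by rw [(hc' d⁻¹).eq]; group

theorem cover_zero {H : Type} [Group H] [Finite H] (hperf : commutator H = ⊤)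
    (f : H →* Matrix.ProjectiveSpecialLinearGroup (Fin 2) (ZMod 13)) (hf : Function.Surjective f)
    (hc : f.ker ≤ Subgroup.center H) :
    Nonempty (H ≃* Matrix.ProjectiveSpecialLinearGroup (Fin 2) (ZMod 13)) ∨
      Nonempty (H ≃* SL(2, ZMod 13)) := by
  let q : SL(2, ZMod 13) →* Matrix.ProjectiveSpecialLinearGroup (Fin 2) (ZMod 13) :=
    QuotientGroup.mk' _
  have hq : Function.Surjective q := QuotientGroup.mk'_surjective _
  let P : Subgroup (H × SL(2, ZMod 13)) :=
    (f.comp (MonoidHom.fst H _)).eqLocus (q.comp (MonoidHom.snd H _))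
  let σ : P →* SL(2, ZMod 13) := (MonoidHom.snd H _).comp P.subtype
  let τ : P →* H := (MonoidHom.fst H _).comp P.subtype
  have hσs : Function.Surjective σ := fun s => by
    obtain ⟨g, hg⟩ := hf (q s)
    exact ⟨⟨(g, s), hg⟩, rfl⟩
  have hτs : Function.Surjective τ := fun g => by
    obtain ⟨s, hs⟩ := hq (f g)
    exact ⟨⟨(g, s), hs.symm⟩, rfl⟩
  have hσk : ∀ x : P, σ x = 1 → ∀ y : P, Commute x y := by
    intro x hx y
    have h2 : (x : H × SL(2, ZMod 13)).2 = 1 := hx
    have h1 : f (x : H × SL(2, ZMod 13)).1 = 1 := by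
      rw [show f (x : H × SL(2, ZMod 13)).1 = q (x : H × SL(2, ZMod 13)).2 from x.2, h2, map_one]
    have h3 := hc (MonoidHom.mem_ker.mpr h1)
    refine Subtype.ext (Prod.ext ?_ ?_)
    · exact (mem_center_iff.mp h3 _).symm
    · show (x : H × SL(2, ZMod 13)).2 * (y : H × SL(2, ZMod 13)).2 =
        (y : H × SL(2, ZMod 13)).2 * (x : H × SL(2, ZMod 13)).2
      rw [h2, one_mul, mul_one]
  have hperfS : commutator SL(2, ZMod 13) = ⊤ :=
    CfsgLib.Classical.commutator_SL_eq_top (Or.inr ⟨2, by decide, by decide⟩)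
  set D := commutator P
  have hσD : D.map σ = ⊤ := by
    show (commutator P).map σ = ⊤
    rw [commutator_def, map_commutator, map_top_of_surjective _ hσs, ← commutator_def, hperfS]
  have hτD : D.map τ = ⊤ := by
    show (commutator P).map τ = ⊤
    rw [commutator_def, map_commutator, map_top_of_surjective _ hτs, ← commutator_def, hperf]
  have hDperf : commutator D = ⊤ := by
    have hcomp : ∀ x : P, ∃ d ∈ D, ∀ y : P, Commute (d⁻¹ * x) y := fun x => by
      obtain ⟨d, hd, he⟩ : σ x ∈ D.map σ := hσD ▸ mem_top _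
      exact ⟨d, hd, hσk _ (by rw [map_mul, map_inv, he, inv_mul_cancel])⟩
    have hle : D ≤ (commutator D).map D.subtype := by
      show commutator P ≤ _
      rw [commutator_def, commutator_le]
      intro x _ y _
      obtain ⟨d, hd, hdc⟩ := hcomp x
      obtain ⟨d', hd', hdc'⟩ := hcomp y
      refine ⟨⁅(⟨d, hd⟩ : D), (⟨d', hd'⟩ : D)⁆,
        commutator_mem_commutator (mem_top _) (mem_top _), ?_⟩
      rw [map_commutatorElement]
      show ⁅d, d'⁆ = ⁅x, y⁆
      obtain ⟨c, hc, rfl⟩ : ∃ c : P, (∀ y, Commute c y) ∧ x = d * c := ⟨d⁻¹ * x, hdc, by group⟩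
      obtain ⟨c', hc', rfl⟩ : ∃ c : P, (∀ y, Commute c y) ∧ y = d' * c :=
        ⟨d'⁻¹ * y, hdc', by group⟩
      exact (commutatorElement_mul_central hc hc' d d').symm
    rw [eq_top_iff]
    intro d _
    obtain ⟨e, he, hed⟩ := hle d.2
    rwa [Subtype.ext hed] at he
  let σ' : D →* SL(2, ZMod 13) := σ.comp D.subtype
  have hσ's : Function.Surjective σ' := fun s => by
    obtain ⟨d, hd, he⟩ : s ∈ D.map σ := hσD ▸ mem_top _
    exact ⟨⟨d, hd⟩, he⟩
  have hst : Cfsg.IsStemExtension σ' := ⟨hσ's, fun x hx => mem_center_iff.mpr fun y =>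
    Subtype.ext (hσk x hx y).eq.symm, hDperf ▸ le_top⟩
  have hker := CfsgLib.StemExt.ker_eq_bot_of_hasCyclicSchurMultiplier_one
    (CfsgLib.Schur.hasTrivialMultiplier_SL_two (F := ZMod 13) (by simp) (by simp)) σ' hst
  let e : D ≃* SL(2, ZMod 13) :=
    MulEquiv.ofBijective σ' ⟨(MonoidHom.ker_eq_bot_iff σ').mp hker, hσ's⟩
  let g : SL(2, ZMod 13) →* H := (τ.comp D.subtype).comp e.symm.toMonoidHom
  have hgs : Function.Surjective g := fun h => by
    obtain ⟨d, hd, he⟩ : h ∈ D.map τ := hτD ▸ mem_top _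
    refine ⟨e ⟨d, hd⟩, ?_⟩
    show τ ((e.symm (e ⟨d, hd⟩) : D) : P) = h
    rw [e.symm_apply_apply]; exact he
  have hgq : ∀ s, f (g s) = q s := fun s => by
    have h1 : ((e.symm s : D) : P).1.2 = s := e.apply_symm_apply s
    show f ((e.symm s : D) : P).1.1 = q s
    rw [show f ((e.symm s : D) : P).1.1 = q ((e.symm s : D) : P).1.2 from ((e.symm s : D) : P).2, h1]
  have hgk : g.ker ≤ Subgroup.center SL(2, ZMod 13) := fun s hs => by
    have h := hgq s
    rw [MonoidHom.mem_ker.mp hs, map_one] at h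
    exact (QuotientGroup.eq_one_iff s).mp h.symm
  have hcard2 : Nat.card (Subgroup.center SL(2, ZMod 13)) = 2 := by
    rw [CfsgLib.SL2.card_center, Nat.card_zmod]; rfl
  have hd : Nat.card g.ker ∣ 2 := (card_dvd_of_le hgk).trans (dvd_of_eq hcard2)
  rcases (Nat.dvd_prime Nat.prime_two).mp hd with h | h
  · exact Or.inr ⟨(MulEquiv.ofBijective g
      ⟨(MonoidHom.ker_eq_bot_iff g).mp (eq_bot_of_card_eq _ h), hgs⟩).symm⟩
  · have heq : g.ker = Subgroup.center SL(2, ZMod 13) :=
      eq_of_le_of_card_ge hgk (by rw [hcard2, h])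
    exact Or.inl ⟨(QuotientGroup.quotientKerEquivOfSurjective g hgs).symm.trans
      (QuotientGroup.quotientMulEquivOfEq heq)⟩

/-- A perfect central extension of `PSL_2(13)` is `PSL_2(13)` or `SL_2(13)`. -/
theorem cover {H : Type*} [Group H] [Finite H] (hperf : commutator H = ⊤)
    (f : H →* Matrix.ProjectiveSpecialLinearGroup (Fin 2) (ZMod 13)) (hf : Function.Surjective f)
    (hc : f.ker ≤ Subgroup.center H) :
    Nonempty (H ≃* Matrix.ProjectiveSpecialLinearGroup (Fin 2) (ZMod 13)) ∨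
      Nonempty (H ≃* SL(2, ZMod 13)) := by
  let e : H ≃* Shrink.{0} H := (Shrink.mulEquiv).symm
  haveI : Finite (Shrink.{0} H) := Finite.of_equiv _ e.toEquiv
  have hp : commutator (Shrink.{0} H) = ⊤ := by
    rw [commutator_def, ← map_top_of_surjective e.toMonoidHom e.surjective, ← map_commutator,
      ← commutator_def, hperf]
  refine (cover_zero hp (f.comp e.symm.toMonoidHom) (hf.comp e.symm.surjective) ?_).imp
    (fun ⟨φ⟩ => ⟨e.trans φ⟩) (fun ⟨φ⟩ => ⟨e.trans φ⟩)
  intro z hz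
  have h := mem_center_iff.mp (hc (show e.symm z ∈ f.ker from hz))
  rw [mem_center_iff]
  intro w
  refine e.symm.injective ?_
  rw [map_mul, map_mul]
  exact h _

end CfsgLib.MaxNormalizer
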