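import Mathlib
import Cfsg.Agent.Lib.MaxNormalizer.Basic
import Cfsg.Agent.Lib.Layer.Radical

/-!
Passing to the group modulo its soluble radical.
-/

set_option autoImplicit false
set_option linter.style.haveILetI false

open Subgroup

namespace CfsgLib.MaxNormalizer

variable {G : Type*} [Group G] [Finite G]

/-- The hypothesis of the theorem. -/
def Hyp (G : Type*) [Group G] : Prop :=
  ∀ H : Subgroup G, ¬ H.IsSubnormal →
    (∃ p q : ℕ, p.Prime ∧ q.Prime ∧ ∀ r : ℕ, r.Prime → r ∣ Nat.card H → r = p ∨ r = q) →
    IsCoatom (normalizer (H : Set G))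

variable {R : Subgroup G} [R.Normal]

theorem quot_rad (hR : R = Cfsg.solvableRadical G) (K : Subgroup (G ⧸ R)) (hK : K.Normal)
    (hs : Group.IsSolvable K) : K = ⊥ := by
  haveI := hK
  haveI := hs
  set L := K.comap (QuotientGroup.mk' R) with hL
  haveI hRs : Group.IsSolvable R := by rw [hR]; exact CfsgLib.Layer.solvableRadical_isSolvable
  let ψ : L →* K := (QuotientGroup.mk' R).subgroupComap K
  have hRL : R ≤ L := fun r hr => by
    rw [hL, mem_comap, QuotientGroup.mk'_apply, (QuotientGroup.eq_one_iff r).mpr hr]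
    exact one_mem K
  have hLs : Group.IsSolvable L := by
    refine Group.isSolvable_of_ker_le_range (inclusion hRL) ψ ?_
    intro l hl
    have h1 : ((l : G) : G ⧸ R) = 1 := congrArg Subtype.val hl
    exact ⟨⟨l, (QuotientGroup.eq_one_iff _).mp h1⟩, rfl⟩
  have hle : L ≤ R := hR ▸ CfsgLib.Layer.le_solvableRadical inferInstance hLs
  rw [eq_bot_iff]
  intro z hz
  obtain ⟨g, rfl⟩ := QuotientGroup.mk'_surjective R z
  exact mem_bot.mpr ((QuotientGroup.eq_one_iff g).mpr (hle hz))

/-- Biprimary solvable subgroups outside the radical. -/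
theorem key (h : Hyp G) (hR : R = Cfsg.solvableRadical G) {H : Subgroup G}
    (hs : Group.IsSolvable H) (hb : Biprimary H) (hne : ¬ H ≤ R) :
    R ≤ normalizer (H : Set G) ∧
      normalizer (H : Set G) =
        (normalizer ((H.map (QuotientGroup.mk' R) : Subgroup (G ⧸ R)) : Set (G ⧸ R))).comap
          (QuotientGroup.mk' R) := by
  set π := QuotientGroup.mk' R with hπ
  have hco := h H (fun hsn => hne (hR ▸ CfsgLib.Layer.le_solvableRadical_of_isSubnormal hsn hs)) hb
  have hne' : H.map π ≠ ⊥ := by
    rw [Ne, Subgroup.map_eq_bot_iff, QuotientGroup.ker_mk']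
    exact hne
  have hs' : Group.IsSolvable (H.map π) := CfsgLib.Coprime.isSolvable_map _ hs
  have hle : normalizer (H : Set G) ≤
      (normalizer ((H.map π : Subgroup (G ⧸ R)) : Set (G ⧸ R))).comap π := fun g hg =>
    le_normalizer_map π (mem_map_of_mem _ hg)
  have heq : normalizer (H : Set G) =
      (normalizer ((H.map π : Subgroup (G ⧸ R)) : Set (G ⧸ R))).comap π := by
    refine ((hco.le_iff.mp hle).resolve_left fun e => hne' ?_).symm
    refine quot_rad hR _ (normalizer_eq_top_iff.mp ?_) hs'
    rw [← map_comap_eq_self_of_surjective (QuotientGroup.mk'_surjective R)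
      (normalizer ((H.map π : Subgroup (G ⧸ R)) : Set (G ⧸ R))), ← hπ, e,
      map_top_of_surjective _ (QuotientGroup.mk'_surjective R)]
  refine ⟨fun r hr => ?_, heq⟩
  rw [heq, mem_comap, hπ, QuotientGroup.mk'_apply, (QuotientGroup.eq_one_iff r).mpr hr]
  exact one_mem _

/-- The group modulo the radical satisfies the reduced hypothesis. -/
theorem quot_ctx (h : Hyp G) (hG : ¬ Group.IsSolvable G) (hR : R = Cfsg.solvableRadical G) :
    Ctx (G ⧸ R) := by
  classical
  haveI hRs : Group.IsSolvable R := by rw [hR]; exact CfsgLib.Layer.solvableRadical_isSolvable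
  set π := QuotientGroup.mk' R with hπ
  refine ⟨quot_rad hR, fun hq => hG ?_, fun K hK1 hKs hKb => ?_⟩
  · haveI := hq
    exact Group.isSolvable_of_ker_le_range R.subtype π (by
      rw [hπ, QuotientGroup.ker_mk', range_subtype])
  haveI : Fintype (Subgroup G) := Fintype.ofFinite _
  obtain ⟨H, hHmem, hmin⟩ := Finset.exists_min_image
    (Finset.univ.filter fun H : Subgroup G => H.map π = K) (fun H => Nat.card H)
    ⟨K.comap π, by simp [hπ, map_comap_eq_self_of_surjective (QuotientGroup.mk'_surjective R)]⟩
  have hHK : H.map π = K := (Finset.mem_filter.mp hHmem).2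
  set N := R.subgroupOf H with hN
  haveI : IsCoatomic (Subgroup H) := by infer_instance
  have hNfr : N ≤ frattini H := by
    refine le_iInf₂ fun M hM => ?_
    by_contra hNM
    have htop : M ⊔ N = ⊤ := hM.2 _ (lt_of_le_of_ne le_sup_left fun e => hNM (e ▸ le_sup_right))
    have hMmap : (M.map H.subtype).map π = K := by
      have e1 := congrArg (fun X : Subgroup H => (X.map H.subtype).map π) htop
      simp only [Subgroup.map_sup] at e1
      have e2 : (N.map H.subtype).map π = ⊥ := by
        rw [eq_bot_iff]
        rintro _ ⟨_, ⟨y, hy, rfl⟩, rfl⟩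
        exact mem_bot.mpr ((QuotientGroup.eq_one_iff _).mpr (mem_subgroupOf.mp hy))
      rw [e2, sup_bot_eq, ← MonoidHom.range_eq_map, range_subtype, hHK] at e1
      exact e1
    have h1 := hmin _ (Finset.mem_filter.mpr ⟨Finset.mem_univ _, hMmap⟩)
    rw [card_map_of_injective H.subtype_injective] at h1
    exact hM.1 (eq_top_of_le_card _ h1)
  have hfrn := frattini_nilpotent (G := H)
  haveI := hfrn
  haveI hNn : Group.IsNilpotent N :=
    Group.nilpotent_of_mulEquiv (subgroupOfEquivOfLe hNfr)
  have hcard : Nat.card H = Nat.card N * Nat.card K := by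
    let f : H →* K := (MulEquiv.subgroupCongr hHK).toMonoidHom.comp (π.subgroupMap H)
    have hf : Function.Surjective f :=
      (MulEquiv.subgroupCongr hHK).surjective.comp (π.subgroupMap_surjective H)
    have hk : f.ker = N := by
      ext y
      rw [MonoidHom.mem_ker, hN, mem_subgroupOf, ← QuotientGroup.eq_one_iff]
      constructor
      · intro e; exact congrArg Subtype.val e
      · intro e; exact Subtype.ext e
    rw [← hk, ← card_mul_index f.ker, index_ker, MonoidHom.range_eq_top.mpr hf, card_top]
  -- the primes of `H` are those of `K`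
  have hprimes : ∀ r : ℕ, r.Prime → r ∣ Nat.card H → r ∣ Nat.card K := by
    intro r hr hrH
    by_contra hrK
    haveI := Fact.mk hr
    have hrN : r ∣ Nat.card N := by
      rw [hcard] at hrH
      exact (hr.dvd_mul.mp hrH).resolve_right hrK
    obtain ⟨P⟩ := (inferInstance : Nonempty (Sylow r N))
    haveI hPn : (P : Subgroup N).Normal :=
      Sylow.normal_of_normalizerCondition Group.normalizerCondition_of_isNilpotent P
    haveI hPc : (P : Subgroup N).Characteristic := Sylow.characteristic_of_normal P hPn
    set P' := (P : Subgroup N).map N.subtype with hP'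
    haveI : P'.Normal := ConjAct.normal_of_characteristic_of_normal
    have hcop : (Nat.card P').Coprime P'.index := by
      obtain ⟨k, hk⟩ := IsPGroup.iff_card.mp P.2
      rw [hP', card_map_of_injective N.subtype_injective, hk]
      refine Nat.Coprime.pow_left k ((hr.coprime_iff_not_dvd).mpr ?_)
      rw [index_map, N.ker_subtype, sup_bot_eq, range_subtype]
      intro hd
      rcases hr.dvd_mul.mp hd with hd | hd
      · exact P.not_dvd_index hd
      · refine hrK ?_
        have e := card_mul_index N
        rw [hcard] at e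
        rwa [Nat.eq_of_mul_eq_mul_left Nat.card_pos e] at hd
    obtain ⟨L, hL⟩ := exists_right_complement'_of_coprime hcop
    have hLtop : L = ⊤ := frattini_nongenerating (by
      rw [eq_top_iff, ← hL.sup_eq_top, sup_comm P' L]
      exact sup_le_sup le_rfl ((map_subtype_le _).trans hNfr))
    have hP1 : P' = ⊥ := by
      have := hL.disjoint.eq_bot
      rwa [hLtop, inf_top_eq] at this
    exact (P.ne_bot_of_dvd_card hrN) ((map_eq_bot_iff_of_injective _ N.subtype_injective).mp hP1)
  have hHs : Group.IsSolvable H := by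
    let f : H →* K := (MulEquiv.subgroupCongr hHK).toMonoidHom.comp (π.subgroupMap H)
    refine Group.isSolvable_of_ker_le_range N.subtype f ?_
    intro y hy
    have e : π (y : G) = 1 := congrArg Subtype.val hy
    exact ⟨⟨y, mem_subgroupOf.mpr ((QuotientGroup.eq_one_iff _).mp e)⟩, rfl⟩
  have hHb : Biprimary H := by
    obtain ⟨p, q, hp, hq, hpq⟩ := hKb
    exact ⟨p, q, hp, hq, fun r hr hrH => hpq r hr (hprimes r hr hrH)⟩
  have hHne : ¬ H ≤ R := fun hle => hK1 (by
    rw [← hHK, Subgroup.map_eq_bot_iff, hπ, QuotientGroup.ker_mk']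
    exact hle)
  obtain ⟨-, heq⟩ := key h hR hHs hHb hHne
  have hco := h H (fun hsn => hHne (hR ▸ CfsgLib.Layer.le_solvableRadical_of_isSubnormal hsn hHs)) hHb
  rw [heq, ← hπ, hHK] at hco
  have hs := QuotientGroup.mk'_surjective R
  refine ⟨fun e => hco.1 (by rw [e, comap_top]), fun M hM => ?_⟩
  rw [← map_comap_eq_self_of_surjective hs M, hco.2 _ ((comap_lt_comap_of_surjective hs).mpr hM),
    map_top_of_surjective _ hs]

end CfsgLib.MaxNormalizer
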