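import Mathlib
import Cfsg.Agent.Lib.MaxNormalizer.CaseB
import Cfsg.Agent.Lib.SL2.PSL
import Cfsg.Agent.Lib.SL2.Unipotent
import Cfsg.Agent.Lib.Invol.SelfNormalizingPSL
import Cfsg.Agent.S0811
import Cfsg.Agent.S0812
import Cfsg.Agent.S2543

/-!
Among the groups `PSL_2` of odd order only `PSL_2(13)` has maximal normalisers.
-/

set_option autoImplicit false
set_option linter.style.haveILetI false

open Subgroup Matrix
open scoped MatrixGroups Pointwise

namespace CfsgLib.MaxNormalizer

variable {G : Type*} [Group G] [Finite G]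

/-- The hypothesis is invariant under isomorphism. -/
theorem Ctx.congr {H : Type*} [Group H] (c : Ctx G) (e : G ≃* H) : Ctx H := by
  haveI : Finite H := Finite.of_equiv G e.toEquiv
  have hinj : Function.Injective e.symm.toMonoidHom := e.symm.injective
  have hsurj : Function.Surjective e.symm.toMonoidHom := e.symm.surjective
  have hback : ∀ K : Subgroup H, (K.map e.symm.toMonoidHom).map e.toMonoidHom = K := fun K => by
    rw [Subgroup.map_map]
    convert Subgroup.map_id K
    ext z
    simp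
  refine ⟨fun K hK hs => ?_, fun h => c.nonsolv ?_, fun K hK hs hb => ?_⟩
  · haveI := hs
    have hn : (K.map e.symm.toMonoidHom).Normal := Normal.map hK _ hsurj
    have := c.rad _ hn (CfsgLib.Coprime.isSolvable_map _ hs)
    exact (map_eq_bot_iff_of_injective _ hinj).mp this
  · haveI := h
    exact Group.isSolvable_of_isSolvable_injective (f := e.toMonoidHom) e.injective
  · have h1 := c.max (K.map e.symm.toMonoidHom)
      (fun h => hK ((map_eq_bot_iff_of_injective _ hinj).mp h)) (CfsgLib.Coprime.isSolvable_map _ hs)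
      (by
        obtain ⟨p, q, hp, hq, h⟩ := hb
        exact ⟨p, q, hp, hq, fun r hr hrK => h r hr (by rwa [card_map_of_injective hinj] at hrK)⟩)
    have hNN : normalizer (K : Set H) =
        (normalizer ((K.map e.symm.toMonoidHom : Subgroup G) : Set G)).map e.toMonoidHom := by
      rw [map_equiv_normalizer_eq, hback]
    rw [hNN]
    exact (e.mapSubgroup.isCoatom_iff _).mpr h1

/-- A maximal dihedral subgroup has `k/s` at most two for every odd prime `s` dividing `k`. -/
theorem Ctx.div_dvd_two (c : Ctx G) {D : Subgroup G} (hD : IsCoatom D) {k : ℕ} [NeZero k]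
    (e : D ≃* DihedralGroup k) {s : ℕ} (hs : s.Prime) (hs2 : s ≠ 2) (hsk : s ∣ k) : k / s ∣ 2 := by
  classical
  set d := k / s with hd
  have hds : d * s = k := Nat.div_mul_cancel hsk
  let φ : DihedralGroup k →* G := D.subtype.comp e.symm.toMonoidHom
  have hφi : Function.Injective φ := D.subtype_injective.comp e.symm.injective
  have hφD : ∀ z, φ z ∈ D := fun z => (e.symm z).2
  have hφs : ∀ g ∈ D, ∃ z, φ z = g := fun g hg => ⟨e ⟨g, hg⟩, by simp [φ]⟩
  set x := φ (DihedralGroup.r (d : ZMod k)) with hx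
  set t := φ (DihedralGroup.sr 0) with ht
  have hxo : orderOf x = s := by
    rw [hx, orderOf_injective φ hφi, DihedralGroup.orderOf_r, ZMod.val_natCast]
    have hdlt : d < k := by
      rw [← hds]
      exact lt_mul_of_one_lt_right (Nat.pos_of_ne_zero fun h0 => by
        rw [h0, zero_mul] at hds; exact NeZero.ne k hds.symm) hs.one_lt
    rw [Nat.mod_eq_of_lt hdlt, Nat.gcd_eq_right ⟨s, hds.symm⟩]
    exact Nat.div_eq_of_eq_mul_left (Nat.pos_of_ne_zero fun h0 => by
      rw [h0, zero_mul] at hds; exact NeZero.ne k hds.symm) (by rw [mul_comm]; exact hds.symm)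
  have hx1 : x ≠ 1 := fun h => by rw [h, orderOf_one] at hxo; exact hs.ne_one hxo.symm
  have hxpow : ∀ i : ℕ, x ^ i = φ (DihedralGroup.r ((d * i : ℕ) : ZMod k)) := fun i => by
    rw [hx, ← map_pow, DihedralGroup.r_pow]
    push_cast
    rfl
  have hgen : ∀ g ∈ D, g ∈ normalizer (zpowers x : Set G) := by
    intro g hg
    obtain ⟨z, rfl⟩ := hφs g hg
    refine mem_norm_zpowers ?_
    rcases z with i | i
    · have h1 : (DihedralGroup.r i * DihedralGroup.r (d : ZMod k) * (DihedralGroup.r i)⁻¹) =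
          DihedralGroup.r (d : ZMod k) := by simp
      rw [hx, ← map_inv, ← map_mul, ← map_mul, h1]
      exact mem_zpowers x
    · have h1 : (DihedralGroup.sr i * DihedralGroup.r (d : ZMod k) * (DihedralGroup.sr i)⁻¹) =
          (DihedralGroup.r (d : ZMod k))⁻¹ := by simp
      rw [hx, ← map_inv, ← map_mul, ← map_mul, h1, map_inv]
      exact inv_mem (mem_zpowers x)
  have hNX : normalizer (zpowers x : Set G) = D :=
    c.eq_of_coatom hD hgen (zpowers_ne_bot' hx1) (isSolvable_zpowers x)
  have htD : t ∈ D := hφD _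
  set H0 := zpowers x ⊔ zpowers t with hH0
  have htt : t * t = 1 := by rw [ht, ← map_mul, DihedralGroup.sr_mul_self, map_one]
  have hmem : ∀ h ∈ H0, ∃ i : ℕ, h = x ^ i ∨ h = x ^ i * t := by
    intro h hh
    have h2 : h ∈ (zpowers x : Set G) * (zpowers t : Set G) := by
      rw [← coe_mul_of_right_le_normalizer_left _ _ (zpowers_le.mpr (hgen t htD))]
      exact hh
    obtain ⟨u, hu, v, hv, rfl⟩ := h2
    obtain ⟨i, rfl⟩ := mem_powers_iff_mem_zpowers.mpr hu
    obtain ⟨j, rfl⟩ := mem_powers_iff_mem_zpowers.mpr hv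
    refine ⟨i, ?_⟩
    dsimp only
    rcases Nat.even_or_odd j with ⟨m, rfl⟩ | ⟨m, rfl⟩
    · exact Or.inl (by rw [← two_mul, pow_mul, sq, htt, one_pow, mul_one])
    · exact Or.inr (by rw [pow_succ, pow_mul, sq, htt, one_pow, one_mul])
  have hinv : ∀ i : ℕ, (x ^ i * t) * (x ^ i * t) = 1 := fun i => by
    rw [hxpow, ht, ← map_mul, DihedralGroup.r_mul_sr, ← map_mul, DihedralGroup.sr_mul_self, map_one]
  have hord : ∀ h ∈ H0, orderOf h ∣ s ∨ orderOf h ∣ 2 := by
    intro h hh
    obtain ⟨i, rfl | rfl⟩ := hmem h hh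
    · exact Or.inl (hxo ▸ orderOf_pow_dvd i)
    · exact Or.inr (orderOf_dvd_of_pow_eq_one (by rw [sq]; exact hinv i))
  have hb : Biprimary H0 := by
    refine ⟨s, 2, hs, Nat.prime_two, fun r hr hrH => ?_⟩
    haveI := Fact.mk hr
    obtain ⟨h, hh⟩ := exists_prime_orderOf_dvd_card' (G := H0) r hrH
    rw [← orderOf_coe] at hh
    exact (hord _ h.2).imp (fun e => (Nat.prime_dvd_prime_iff_eq hr hs).mp (hh ▸ e))
      (fun e => (Nat.prime_dvd_prime_iff_eq hr Nat.prime_two).mp (hh ▸ e))
  have hsol : Group.IsSolvable H0 := CfsgLib.Coprime.isSolvable_sup_of_le_normalizer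
    (isSolvable_zpowers x) (isSolvable_zpowers t) (zpowers_le.mpr (hgen t htD))
  have hH01 : H0 ≠ ⊥ := fun h => hx1 <| mem_bot.mp <| h ▸ mem_sup_left (mem_zpowers x)
  have hle : normalizer (H0 : Set G) ≤ normalizer (zpowers x : Set G) := by
    intro g hg
    refine mem_norm_zpowers ?_
    obtain ⟨i, h | h⟩ := hmem _ ((mem_normalizer_iff.mp hg x).mp (mem_sup_left (mem_zpowers x)))
    · exact h ▸ pow_mem (mem_zpowers x) i
    · exfalso
      have h1 : orderOf (g * x * g⁻¹) ∣ 2 :=
        orderOf_dvd_of_pow_eq_one (by rw [sq, h]; exact hinv i)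
      rw [orderOf_conj, hxo] at h1
      exact hs2 ((Nat.prime_dvd_prime_iff_eq hs Nat.prime_two).mp h1)
  rw [hNX] at hle
  have hN0 : normalizer (H0 : Set G) = D :=
    ((c.max H0 hH01 hsol hb).le_iff.mp hle).resolve_left hD.ne_top |>.symm
  have hr1 : φ (DihedralGroup.r 1) ∈ normalizer (H0 : Set G) := hN0.symm ▸ hφD _
  have hmem2 := (mem_normalizer_iff.mp hr1 t).mp (mem_sup_right (mem_zpowers t))
  rw [ht, ← map_inv, ← map_mul, ← map_mul] at hmem2
  obtain ⟨i, h | h⟩ := hmem _ hmem2
  · rw [hxpow] at h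
    have := hφi h
    simp at this
  · rw [hxpow, ht, ← map_mul] at h
    have h' := hφi h
    simp only [DihedralGroup.r_mul_sr, DihedralGroup.inv_r, DihedralGroup.sr_mul_r,
      DihedralGroup.sr.injEq] at h'
    -- `d * i = 2` modulo `k`
    have h2 : ((d * i : ℕ) : ZMod k) = ((2 : ℕ) : ZMod k) := by
      push_cast
      linear_combination (norm := (push_cast; ring)) h'
    rw [ZMod.natCast_eq_natCast_iff'] at h2
    have hdk : d ∣ k := ⟨s, hds.symm⟩
    have h3 : d * i % d = 2 % d := by
      rw [← Nat.mod_mod_of_dvd (d * i) hdk, ← Nat.mod_mod_of_dvd 2 hdk, h2]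
    rw [Nat.mul_mod_right] at h3
    exact Nat.dvd_of_mod_eq_zero h3.symm

variable {F : Type} [Field F] [Fintype F]

theorem pow_three_case (c : Ctx (ProjectiveSpecialLinearGroup (Fin 2) F)) [CharP F 3]
    (h5 : 5 < Fintype.card F) (h4 : Fintype.card F % 4 = 3) : False := by
  classical
  haveI : Fact (Nat.Prime 3) := ⟨Nat.prime_three⟩
  let W := (SL2.proj.comp (SL2.upperHom (F := F))).range
  set u : ProjectiveSpecialLinearGroup (Fin 2) F := SL2.proj (SL2.upperHom (Multiplicative.ofAdd 1))
    with hu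
  have hcen : ∀ g : SL(2, F), SL2.proj g = 1 → g = 1 ∨ g = -1 := fun g hg =>
    SL2.eq_one_or_eq_neg_one_of_mem_center g ((SL2.proj_eq_one_iff g).mp hg)
  have h10 : (-1 : F) ≠ 1 := by
    intro h
    have h2 : ((2 : ℕ) : F) = 0 := by push_cast; linear_combination -h
    rw [CharP.cast_eq_zero_iff F 3] at h2
    omega
  have hu1 : u ≠ 1 := by
    intro h
    rcases hcen _ h with e | e <;>
      · have := congrArg (fun g : SL(2, F) => (g : Matrix (Fin 2) (Fin 2) F) 0 1) e
        simp [SL2.upperHom_coe] at this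
  have hu3 : u ^ 3 = 1 := by
    rw [hu, ← map_pow, ← map_pow]
    convert map_one SL2.proj
    convert map_one (SL2.upperHom (F := F))
    rw [← ofAdd_nsmul, nsmul_one, CharP.cast_eq_zero, ofAdd_zero]
  have huo : orderOf u = 3 := orderOf_eq_prime hu3 hu1
  have hM : IsCoatom (normalizer (zpowers u : Set (ProjectiveSpecialLinearGroup (Fin 2) F))) :=
    c.max_pPow Nat.prime_three (i := 1) hu1 (by rw [huo, pow_one])
  have hle : normalizer (zpowers u : Set (ProjectiveSpecialLinearGroup (Fin 2) F)) ≤ W := by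
    intro z hz
    obtain ⟨g, rfl⟩ := SL2.proj_surjective z
    obtain ⟨m, hm⟩ := mem_zpowers_iff.mp (conj_mem_of_norm hz (mem_zpowers u))
    rw [hu, ← map_zpow, ← map_inv, ← map_mul, ← map_mul, ← map_zpow] at hm
    set b : Multiplicative F := Multiplicative.ofAdd 1 ^ m with hb
    obtain ⟨w, hw, hwe⟩ : ∃ w : SL(2, F), (w = 1 ∨ w = -1) ∧
        g * SL2.upperHom (Multiplicative.ofAdd 1) * g⁻¹ = SL2.upperHom b * w := by
      refine ⟨(SL2.upperHom b)⁻¹ * (g * SL2.upperHom (Multiplicative.ofAdd 1) * g⁻¹), hcen _ ?_, by group⟩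
      rw [map_mul, map_inv, hm, inv_mul_cancel]
    have hwm : g * SL2.upperHom (Multiplicative.ofAdd 1) = SL2.upperHom b * w * g :=
      mul_inv_eq_iff_eq_mul.mp hwe
    have hdet : (g : Matrix (Fin 2) (Fin 2) F) 0 0 * (g : Matrix (Fin 2) (Fin 2) F) 1 1 -
        (g : Matrix (Fin 2) (Fin 2) F) 0 1 * (g : Matrix (Fin 2) (Fin 2) F) 1 0 = 1 := by
      rw [← Matrix.det_fin_two]; exact g.det_coe
    have hmat : (g : Matrix (Fin 2) (Fin 2) F) *
          (SL2.upperHom (Multiplicative.ofAdd (1 : F)) : Matrix (Fin 2) (Fin 2) F) =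
        (SL2.upperHom b : Matrix (Fin 2) (Fin 2) F) * (w : Matrix (Fin 2) (Fin 2) F) *
          (g : Matrix (Fin 2) (Fin 2) F) :=
      congrArg (fun z : SL(2, F) => (z : Matrix (Fin 2) (Fin 2) F)) hwm
    rw [SL2.upperHom_coe, SL2.upperHom_coe] at hmat
    rcases hw with rfl | rfl
    · rw [show ((1 : SL(2, F)) : Matrix (Fin 2) (Fin 2) F) = 1 from rfl, mul_one] at hmat
      have e11 := congrFun (congrFun hmat 1) 1
      have e01 := congrFun (congrFun hmat 0) 1
      simp [Matrix.mul_apply] at e11 e01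
      -- `e11 : g 1 0 = 0`, `e01 : g 0 0 = b * g 1 1`
      have hg10 : (g : Matrix (Fin 2) (Fin 2) F) 1 0 = 0 := by linear_combination e11
      rw [hg10, mul_zero, sub_zero] at hdet
      set α := (g : Matrix (Fin 2) (Fin 2) F) 0 0 with hα
      have hα0 : α ≠ 0 := left_ne_zero_of_mul (a := α) (b := (g : Matrix (Fin 2) (Fin 2) F) 1 1)
        (by rw [hdet]; exact one_ne_zero)
      have hsq : α * α = b.toAdd := by
        linear_combination α * e01 + b.toAdd * hdet
      have hb' : b.toAdd = (m : F) := by rw [hb, toAdd_zpow, toAdd_ofAdd, zsmul_one]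
      have hα1 : α = 1 ∨ α = -1 := by
        rw [hb'] at hsq
        have h3 : (m : F) = ((m % 3 : ℤ) : F) := by
          conv_lhs => rw [← Int.mul_ediv_add_emod m 3]
          push_cast
          have : (3 : F) = 0 := by exact_mod_cast CharP.cast_eq_zero F 3
          rw [this, zero_mul, zero_add]
        rw [h3] at hsq
        have hcases : m % 3 = 0 ∨ m % 3 = 1 ∨ m % 3 = 2 := by omega
        rcases hcases with h | h | h <;> rw [h] at hsq <;> push_cast at hsq
        · exact absurd (mul_self_eq_zero.mp hsq) hα0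
        · exact mul_self_eq_one_iff.mp hsq
        · exfalso
          have hns : ¬ IsSquare (-1 : F) := by
            rw [FiniteField.isSquare_neg_one_iff]
            omega
          refine hns ⟨α, ?_⟩
          have : (3 : F) = 0 := by exact_mod_cast CharP.cast_eq_zero F 3
          linear_combination -hsq - this
      rcases hα1 with h1 | h1
      · refine ⟨Multiplicative.ofAdd ((g : Matrix (Fin 2) (Fin 2) F) 0 1), ?_⟩
        show SL2.proj _ = SL2.proj g
        congr 1
        apply Subtype.ext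
        rw [SL2.upperHom_coe]
        rw [h1, one_mul] at hdet
        ext i j
        fin_cases i <;> fin_cases j <;> simp [hg10, ← hα, h1, hdet]
      · refine ⟨Multiplicative.ofAdd (-((g : Matrix (Fin 2) (Fin 2) F) 0 1)), ?_⟩
        show SL2.proj _ = SL2.proj g
        refine (QuotientGroup.eq.mpr ?_)
        rw [SL2.mem_center_iff_not_nonScalar]
        rw [h1] at hdet
        have h11 : (g : Matrix (Fin 2) (Fin 2) F) 1 1 = -1 := by linear_combination -hdet
        have hgeq : (SL2.upperHom (Multiplicative.ofAdd (-((g : Matrix (Fin 2) (Fin 2) F) 0 1))))⁻¹ * g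
            = -1 := by
          rw [inv_mul_eq_iff_eq_mul]
          apply Subtype.ext
          show (g : Matrix (Fin 2) (Fin 2) F) =
            (SL2.upperHom (Multiplicative.ofAdd (-((g : Matrix (Fin 2) (Fin 2) F) 0 1))) :
              Matrix (Fin 2) (Fin 2) F) * ((-1 : SL(2, F)) : Matrix (Fin 2) (Fin 2) F)
          rw [show ((-1 : SL(2, F)) : Matrix (Fin 2) (Fin 2) F) = -1 from SpecialLinearGroup.coe_neg 1,
            SL2.upperHom_coe]
          ext i j
          fin_cases i <;> fin_cases j <;> simp [Matrix.mul_apply, hg10, ← hα, h1, h11]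
        rw [← SL2.mem_center_iff_not_nonScalar, hgeq, Subgroup.mem_center_iff]
        intro k
        simp
    · exfalso
      rw [show ((-1 : SL(2, F)) : Matrix (Fin 2) (Fin 2) F) = -1 from
        SpecialLinearGroup.coe_neg 1, mul_neg, mul_one, neg_mul] at hmat
      have h2 : (2 : F) ≠ 0 := fun h => h10 (by linear_combination -h)
      have e10 := congrFun (congrFun hmat 1) 0
      have e11 := congrFun (congrFun hmat 1) 1
      simp [Matrix.mul_apply, Matrix.vecMul, dotProduct, Fin.sum_univ_two] at e10 e11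
      have hg10 : (g : Matrix (Fin 2) (Fin 2) F) 1 0 = 0 :=
        (mul_eq_zero.mp (show (2 : F) * _ = 0 by linear_combination e10)).resolve_left h2
      have hg11 : (g : Matrix (Fin 2) (Fin 2) F) 1 1 = 0 :=
        (mul_eq_zero.mp (show (2 : F) * _ = 0 by linear_combination e11 - hg10)).resolve_left h2
      rw [hg10, hg11, mul_zero, mul_zero, sub_zero] at hdet
      exact zero_ne_one hdet
  -- a diagonal element normalises `W` outside it
  obtain ⟨a, ha0, ha⟩ : ∃ a : F, a ≠ 0 ∧ a * a ≠ 1 := by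
    by_contra hcon
    push Not at hcon
    have hsub : (Finset.univ : Finset F) ⊆ ({0, 1, -1} : Finset F) := fun z _ => by
      by_cases hz : z = 0
      · simp [hz]
      · rcases mul_self_eq_one_iff.mp (hcon z hz) with h | h <;> simp [h]
    have h1 := Finset.card_le_card hsub
    have h2 : ({0, 1, -1} : Finset F).card ≤ 3 := Finset.card_le_three
    rw [Finset.card_univ] at h1
    omega
  let dg : SL(2, F) := ⟨!![a, 0; 0, a⁻¹], by simp [Matrix.det_fin_two, ha0]⟩
  have hconj : ∀ b : Multiplicative F,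
      dg * SL2.upperHom b * dg⁻¹ = SL2.upperHom (Multiplicative.ofAdd (a * b.toAdd * a)) := by
    intro b
    rw [mul_inv_eq_iff_eq_mul]
    apply Subtype.ext
    show (!![a, 0; 0, a⁻¹] : Matrix (Fin 2) (Fin 2) F) *
        (SL2.upperHom b : Matrix (Fin 2) (Fin 2) F) =
      (SL2.upperHom (Multiplicative.ofAdd (a * b.toAdd * a)) : Matrix (Fin 2) (Fin 2) F) *
        !![a, 0; 0, a⁻¹]
    rw [SL2.upperHom_coe, SL2.upperHom_coe]
    ext i j
    fin_cases i <;> fin_cases j <;> simp [Matrix.mul_apply, ha0]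
  have hdW : SL2.proj dg ∈ normalizer (W : Set (ProjectiveSpecialLinearGroup (Fin 2) F)) := by
    have hfwd : ∀ z ∈ W, SL2.proj dg * z * (SL2.proj dg)⁻¹ ∈ W := by
      rintro _ ⟨b, rfl⟩
      exact ⟨Multiplicative.ofAdd (a * b.toAdd * a), by
        simp only [MonoidHom.comp_apply, ← map_inv, ← map_mul, hconj]⟩
    have hmap : W.map (MulAut.conj (SL2.proj dg)).toMonoidHom = W :=
      eq_of_le_of_card_ge (by rintro _ ⟨z, hz, rfl⟩; exact hfwd z hz)
        (by rw [card_map_of_injective (MulAut.conj (SL2.proj dg)).injective])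
    rw [mem_normalizer_iff]
    intro z
    refine ⟨hfwd z, fun hz => ?_⟩
    obtain ⟨y, hy, e⟩ := hmap.ge hz
    simp only [MulEquiv.coe_toMonoidHom, MulAut.conj_apply] at e
    rwa [← mul_left_cancel (mul_right_cancel e)]
  have hdnot : SL2.proj dg ∉ W := by
    rintro ⟨b, hb⟩
    have h := (QuotientGroup.eq.mp hb : (SL2.upperHom b)⁻¹ * dg ∈ _)
    rcases SL2.eq_one_or_eq_neg_one_of_mem_center _ h with e | e <;>
    · rw [inv_mul_eq_iff_eq_mul] at e
      have e00 := congrArg (fun g : SL(2, F) => (g : Matrix (Fin 2) (Fin 2) F) 0 0) e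
      simp [dg, SL2.upperHom_coe, Matrix.mul_apply] at e00
      exact ha (by rw [e00]; ring)
  have hWs : Group.IsSolvable W := Group.isSolvable_of_comm fun x y => Subtype.ext (by
    obtain ⟨b, hb⟩ := x.2
    obtain ⟨b', hb'⟩ := y.2
    show (x : ProjectiveSpecialLinearGroup (Fin 2) F) * y = y * x
    rw [← hb, ← hb', ← map_mul, ← map_mul, mul_comm])
  have hW1 : W ≠ ⊥ := fun h => hu1 (mem_bot.mp (h ▸ ⟨Multiplicative.ofAdd 1, rfl⟩))
  have hN := c.eq_of_coatom hM (hle.trans le_normalizer) hW1 hWs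
  exact hdnot (hle (hN ▸ hdW))

theorem card_eq_thirteen (c : Ctx (ProjectiveSpecialLinearGroup (Fin 2) F))
    (hodd : Odd (Fintype.card F)) : Fintype.card F = 13 := by
  classical
  haveI := Fact.mk Nat.prime_two
  obtain ⟨hV, h4, ⟨p₀, z, hp₀, hp₀2, hz⟩, -, -⟩ := partI c
  obtain ⟨S⟩ := (inferInstance : Nonempty (Sylow 2 (ProjectiveSpecialLinearGroup (Fin 2) F)))
  set q := Fintype.card F with hq
  have hqN : Nat.card F = q := Nat.card_eq_fintype_card
  have hcard := SL2.card_PSL (F := F)
  rw [hqN] at hcard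
  set N := Nat.card (ProjectiveSpecialLinearGroup (Fin 2) F) with hN
  have hg2 : Nat.gcd 2 (q - 1) = 2 := Nat.gcd_eq_left (Nat.Odd.sub_odd hodd odd_one).two_dvd
  rw [hg2] at hcard
  have h8 : ¬ 8 ∣ N := by
    intro h
    have h' := (S.card_eq_multiplicity).symm.trans (h4 S)
    have h2 : 3 ≤ N.factorization 2 :=
      (Nat.prime_two.pow_dvd_iff_le_factorization Nat.card_pos.ne').mp (show 2 ^ 3 ∣ N from h)
    have h3 : 2 ^ 3 ≤ 2 ^ N.factorization 2 := Nat.pow_le_pow_right (by norm_num) h2
    rw [h'] at h3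
    norm_num at h3
  have hq8 : q % 8 = 3 ∨ q % 8 = 5 := by
    have hor : q % 8 = 1 ∨ q % 8 = 3 ∨ q % 8 = 5 ∨ q % 8 = 7 := by
      have := Nat.odd_iff.mp hodd
      omega
    have h16 : ¬ 16 ∣ q * ((q - 1) * (q + 1)) := by
      rw [← hcard]
      exact fun h => h8 ((Nat.mul_dvd_mul_iff_left two_pos).mp (show 2 * 8 ∣ 2 * N from h))
    rcases hor with h | h | h | h
    · exact absurd (Dvd.dvd.mul_left (Nat.mul_dvd_mul (show 8 ∣ q - 1 by omega)
        (show 2 ∣ q + 1 by omega)) q) h16
    · exact Or.inl h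
    · exact Or.inr h
    · exact absurd (Dvd.dvd.mul_left (Nat.mul_dvd_mul (show 2 ∣ q - 1 by omega)
        (show 8 ∣ q + 1 by omega)) q) h16
  have hq1 : 1 < q := Fintype.one_lt_card
  have hq3 : q ≠ 3 := by
    intro h
    rw [h] at hcard
    have hN12 : N = 12 := by omega
    have h12 := (hV S (h4 S)).1
    have htop : normalizer (((S : Subgroup (ProjectiveSpecialLinearGroup (Fin 2) F))) :
        Set (ProjectiveSpecialLinearGroup (Fin 2) F)) = ⊤ :=
      Subgroup.eq_top_of_card_eq _ (h12.trans hN12.symm)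
    exact S.ne_bot_of_dvd_card c.even_card
      (c.rad _ (normalizer_eq_top_iff.mp htop) (isSolvable_pGroup S.2))
  obtain ⟨r, hr⟩ := CharP.exists F
  haveI := hr
  haveI : Fact r.Prime := ⟨CharP.char_is_prime F r⟩
  have hq5 : q ≠ 5 := by
    intro h
    obtain ⟨n, hr', hcard'⟩ := FiniteField.card F r
    rw [← hq, h] at hcard'
    have hr5 : r = 5 := (Nat.prime_dvd_prime_iff_eq hr' (by norm_num)).mp
      (hcard' ▸ dvd_pow_self r n.ne_zero)
    have hspec := SL2.spectrum_PSL (F := F) r (by omega)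
    have hmem : 2 * p₀ ∈ Set.range (orderOf : ProjectiveSpecialLinearGroup (Fin 2) F → ℕ) := ⟨z, hz⟩
    rw [hspec, Set.mem_setOf_eq, hqN, h, hr5] at hmem
    have := hp₀.two_le
    norm_num at hmem
    rcases hmem with h' | h' | h' <;> have := Nat.le_of_dvd (by norm_num) h' <;> omega
  have hq11 : q ≠ 11 := by
    intro h
    obtain ⟨-, H, -, ⟨eH⟩, -, -, -⟩ := Cfsg.Agent.S2543.result (F := F) (hq ▸ h)
    rw [h] at hcard
    have hN660 : N = 660 := by omega
    have h60 : Nat.card H = 60 := by
      rw [Nat.card_congr eH.toEquiv, nat_card_alternatingGroup, Nat.card_fin]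
      rfl
    haveI : IsSimpleGroup H := eH.isSimpleGroup
    obtain ⟨T⟩ := (inferInstance : Nonempty (Sylow 2 H))
    have hT4 : Nat.card (T : Subgroup H) = 4 := by
      rw [T.card_eq_multiplicity, h60]
      have : (60 : ℕ).factorization 2 = 2 := by
        rw [show (60 : ℕ) = 2 ^ 2 * 15 by norm_num,
          Nat.factorization_mul (by norm_num) (by norm_num), Finsupp.add_apply,
          Nat.Prime.factorization_pow Nat.prime_two, Finsupp.single_eq_same,
          Nat.factorization_eq_zero_of_not_dvd (by norm_num)]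
      rw [this]; norm_num
    set V := (T : Subgroup H).map H.subtype with hVdef
    have hV4 : Nat.card V = 4 := by rw [hVdef, card_map_of_injective H.subtype_injective, hT4]
    obtain ⟨hNV, -⟩ := hV V hV4
    have hVne : V ≠ ⊥ := fun h => by rw [h, card_bot] at hV4; omega
    have hVp : IsPGroup 2 V := IsPGroup.of_card (n := 2) hV4
    have hco := c.max_pGroup hVp hVne
    set X := (normalizer (V : Set _)).subgroupOf H with hX
    have hTX : (T : Subgroup H) ≤ X := by
      intro t ht
      exact mem_subgroupOf.mpr (le_normalizer ⟨t, ht, rfl⟩)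
    have hXd : Nat.card X ∣ 12 := by
      rw [← hNV, ← card_map_of_injective (K := X) H.subtype_injective, hX, subgroupOf_map_subtype]
      exact card_dvd_of_le inf_le_left
    have hXd' : 4 ∣ Nat.card X := hT4 ▸ card_dvd_of_le hTX
    have hcases : Nat.card X = 4 ∨ Nat.card X = 12 := by
      obtain ⟨e, he⟩ := hXd'
      rw [he] at hXd ⊢
      have : e ∣ 3 := (Nat.mul_dvd_mul_iff_left (by norm_num)).mp (show 4 * e ∣ 4 * 3 from hXd)
      rcases (Nat.dvd_prime Nat.prime_three).mp this with rfl | rfl <;> norm_num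
    rcases hcases with e | e
    · have heq : (T : Subgroup H) = X := eq_of_le_of_card_ge hTX (by rw [e, hT4])
      have hab : ∀ u v : (T : Subgroup H), u * v = v * u := by
        haveI : IsMulCommutative (T : Subgroup H) :=
          IsPGroup.isMulCommutative_of_card_eq_prime_sq (p := 2) (by rw [hT4]; rfl)
        exact fun u v => IsMulCommutative.is_comm.comm u v
      have hTc : normalizer ((T : Subgroup H) : Set H) ≤ centralizer ((T : Subgroup H) : Set H) := by
        intro w hw v hv
        have hwT : w ∈ (T : Subgroup H) := heq.ge (mem_subgroupOf.mpr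
          (le_normalizer_map H.subtype (mem_map_of_mem _ hw)))
        exact congrArg Subtype.val (hab ⟨v, hv⟩ ⟨w, hwT⟩)
      have hc := MonoidHom.ker_transferSylow_isComplement' T hTc
      have hm := hc.card_mul_card
      rw [hT4, h60] at hm
      rcases (inferInstance : ((MonoidHom.transferSylow T hTc).ker).Normal).eq_bot_or_eq_top with
        h' | h'
      · rw [h', card_bot] at hm; omega
      · rw [h', card_top, h60] at hm; omega
    · have hle : normalizer (V : Set _) ≤ H := by
        refine le_trans (eq_of_le_of_card_ge (inf_le_left :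
          normalizer (V : Set _) ⊓ H ≤ normalizer (V : Set _)) ?_).ge inf_le_right
        rw [hNV, ← subgroupOf_map_subtype, card_map_of_injective H.subtype_injective, ← hX, e]
      rcases hco.le_iff.mp hle with h' | h'
      · rw [h', card_top] at h60; omega
      · rw [h', hNV] at h60; omega
  have hq13' : 11 < q := by omega
  have hqne : q ∉ ({2, 3, 5, 7, 9, 11} : Finset ℕ) := by simp; omega
  obtain ⟨D₁, hD₁, ⟨e₁⟩⟩ := Cfsg.Agent.S0811.result (F := F) hq.symm (by simp; omega)
  obtain ⟨D₂, hD₂, ⟨e₂⟩⟩ := Cfsg.Agent.S0812.result (F := F) hq.symm hqne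
  rw [hg2] at e₁ e₂
  set k₁ := (q + 1) / 2 with hk₁
  set k₂ := (q - 1) / 2 with hk₂
  haveI : NeZero k₁ := ⟨by omega⟩
  haveI : NeZero k₂ := ⟨by omega⟩
  -- each of `k₁`, `k₂` is `s` or `2 * s`
  have key : ∀ {D : Subgroup (ProjectiveSpecialLinearGroup (Fin 2) F)} {k : ℕ} [NeZero k],
      IsCoatom D → (D ≃* DihedralGroup k) → 6 ≤ k → ¬ 4 ∣ k → 3 ∣ k → k = 6 := by
    intro D k _ hD e h6 h4k h3
    have h := c.div_dvd_two hD e Nat.prime_three (by norm_num) h3
    have h2 := Nat.le_of_dvd two_pos h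
    omega
  have hq3d : ¬ 3 ∣ q := by
    intro h3
    obtain ⟨n, hr', hcard'⟩ := FiniteField.card F r
    rw [← hq] at hcard'
    have hr3 : r = 3 := ((Nat.prime_dvd_prime_iff_eq Nat.prime_three hr').mp
      (Nat.prime_three.dvd_of_dvd_pow (hcard' ▸ h3))).symm
    subst hr3
    refine pow_three_case c (by omega) ?_
    show q % 4 = 3
    have : ∀ j : ℕ, 3 ^ j % 8 = 1 ∨ 3 ^ j % 8 = 3 := fun j => by
      induction j with
      | zero => exact Or.inl rfl
      | succ j ih => rw [pow_succ, Nat.mul_mod]; rcases ih with h | h <;> simp [h]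
    have h' := this n
    rw [← hcard'] at h'
    omega
  have hqodd := Nat.odd_iff.mp hodd
  by_cases h31 : 3 ∣ k₁
  · have h := key hD₁ e₁ (by omega) (by omega) h31
    exfalso
    omega
  · have h6 : q % 6 = 1 ∨ q % 6 = 5 := by omega
    have h32 : 3 ∣ k₂ := by rcases h6 with h6 | h6 <;> omega
    have h := key hD₂ e₂ (by omega) (by omega) h32
    omega

/-- Part II: the group is `PSL_2(13)`. -/
theorem thirteen (c : Ctx G) :
    Nonempty (G ≃* ProjectiveSpecialLinearGroup (Fin 2) (ZMod 13)) := by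
  haveI : Fact (Nat.Prime 13) := ⟨by norm_num⟩
  obtain ⟨-, -, -, -, F, _, _, hodd, ⟨e⟩⟩ := partI c
  have h13 := card_eq_thirteen (c.congr e) hodd
  obtain ⟨f⟩ := CfsgLib.Invol.SelfNorm.psl_equiv_of_card (K := F) (F := ZMod 13)
    (by rw [Nat.card_eq_fintype_card, h13, Nat.card_zmod])
  exact ⟨e.trans f⟩

end CfsgLib.MaxNormalizer
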