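import Mathlib
import Cfsg.Agent.Lib.MaxNormalizer.Lift
import Cfsg.Agent.Lib.MaxNormalizer.Thirteen
import Cfsg.Agent.Lib.MaxNormalizer.Cover
import Cfsg.Agent.Lib.Fitting.Basic
import Cfsg.Agent.Lib.PSolvable.Core
import Cfsg.Agent.Lib.Signalizer.Radical
import Cfsg.Agent.S4211

/-!
The structure of a non-soluble group with maximal normalisers.
-/

set_option autoImplicit false
set_option linter.style.haveILetI false

open Subgroup
open scoped MatrixGroups

namespace CfsgLib.MaxNormalizer

local notation "P₁₃" => Matrix.ProjectiveSpecialLinearGroup (Fin 2) (ZMod 13)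

theorem card_P13 : Nat.card P₁₃ = 1092 := by
  have h := CfsgLib.SL2.card_PSL (F := ZMod 13)
  rw [Nat.card_zmod, show Nat.gcd 2 (13 - 1) = 2 from rfl] at h
  omega

variable {G : Type*} [Group G] [Finite G]

/-- A lift of an element of prime order to an element of prime power order. -/
theorem exists_pElement {H : Type*} [Group H] [Finite H] (f : G →* H)
    (hf : Function.Surjective f) {p : ℕ} (hp : p.Prime) (hd : p ∣ Nat.card H) :
    ∃ (g : G) (j : ℕ), orderOf g = p ^ j ∧ orderOf (f g) = p := by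
  haveI := Fact.mk hp
  obtain ⟨y, hy⟩ := exists_prime_orderOf_dvd_card' (G := H) p hd
  obtain ⟨g, rfl⟩ := hf y
  have hg0 : orderOf g ≠ 0 := (orderOf_pos g).ne'
  set m := orderOf g / p ^ (orderOf g).factorization p with hm
  have hmn : p ^ (orderOf g).factorization p * m = orderOf g :=
    Nat.ordProj_mul_ordCompl_eq_self _ p
  have hm0 : m ≠ 0 := (Nat.ordCompl_pos p hg0).ne'
  have hcop : p.Coprime m := Nat.coprime_ordCompl hp hg0
  refine ⟨g ^ m, (orderOf g).factorization p, ?_, ?_⟩
  · rw [orderOf_pow' g hm0, Nat.gcd_eq_right ⟨_, (mul_comm _ _).trans hmn |>.symm⟩]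
    exact Nat.div_eq_of_eq_mul_left (Nat.pos_of_ne_zero hm0) hmn.symm
  · rw [map_pow, orderOf_pow' _ hm0, hy, hcop.gcd_eq_one, Nat.div_one]

/-- Prime power elements generate. -/
theorem mem_of_parts {S : Subgroup G} {g : G}
    (h : ∀ y ∈ zpowers g, ∀ r k : ℕ, r.Prime → orderOf y = r ^ k → y ∈ S) : g ∈ S :=
  CentMaxNormal.mem_of_prime_power_parts h

theorem hamiltonian_odd {A : Type*} [Group A] [Finite A] (ho : Odd (Nat.card A))
    (hn : ∀ H : Subgroup A, H.Normal) : IsMulCommutative A := by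
  by_contra hna
  obtain ⟨Q, -, -, ⟨e⟩, -⟩ := Cfsg.Agent.S4211.result hna hn
  have h2 : 2 ∣ Nat.card Q := by
    rw [Nat.card_congr e.toEquiv, Nat.card_eq_fintype_card, QuaternionGroup.card]
    norm_num
  exact Nat.not_even_iff_odd.mpr ho (even_iff_two_dvd.mpr (h2.trans (card_subgroup_dvd_card Q)))

/-- The theorem. -/
theorem main (h : Hyp G) (hG : ¬ Group.IsSolvable G) :
    ∃ K S : Subgroup G, K.Normal ∧ S.Normal ∧ K ⊓ S = ⊥ ∧ K ⊔ S = ⊤ ∧
      (Nonempty (K ≃* P₁₃) ∨ Nonempty (K ≃* SL(2, ZMod 13))) ∧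
      IsMulCommutative S ∧ (Nat.card K).Coprime (Nat.card S) := by
  classical
  obtain ⟨R, hR⟩ : ∃ R, R = Cfsg.solvableRadical G := ⟨_, rfl⟩
  haveI hRn : R.Normal := hR ▸ CfsgLib.Layer.solvableRadical_normal G
  haveI hRs : Group.IsSolvable R := by rw [hR]; exact CfsgLib.Layer.solvableRadical_isSolvable
  have c := quot_ctx h hG hR
  obtain ⟨hV, h4, -, hsimple, -⟩ := partI c
  obtain ⟨e⟩ := thirteen c
  set π := QuotientGroup.mk' R with hπ
  have hπs : Function.Surjective π := QuotientGroup.mk'_surjective R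
  have hπker : π.ker = R := QuotientGroup.ker_mk' R
  have hπ1 : ∀ g, π g = 1 ↔ g ∈ R := fun g => by rw [← MonoidHom.mem_ker, hπker]
  have hcardQ : Nat.card (G ⧸ R) = 1092 := by rw [Nat.card_congr e.toEquiv, card_P13]
  haveI := hsimple
  -- the perfect residual
  obtain ⟨n, hn⟩ : ∃ n, derivedSeries G (n + 1) = derivedSeries G n := by
    by_contra hcon
    push Not at hcon
    have hlt : ∀ k, Nat.card (derivedSeries G k) + k ≤ Nat.card G := by
      intro k
      induction k with
      | zero => simp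
      | succ k ih =>
        have h1 : derivedSeries G (k + 1) ≤ derivedSeries G k :=
          (derivedSeries_succ G k).le.trans (commutator_le_self _)
        have h2 : Nat.card (derivedSeries G (k + 1)) < Nat.card (derivedSeries G k) := by
          by_contra hge
          exact hcon k (eq_of_le_of_card_ge h1 (Nat.le_of_not_lt hge))
        omega
    have := hlt (Nat.card G)
    have := Nat.card_pos (α := derivedSeries G (Nat.card G))
    omega
  set K := derivedSeries G n with hK
  haveI hKn : K.Normal := derivedSeries_normal G n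
  have hKK : ⁅K, K⁆ = K := by rw [← derivedSeries_succ]; exact hn
  have hstab : ∀ m, K ≤ derivedSeries G m := by
    intro m
    induction m with
    | zero => exact le_top
    | succ m ih => rw [derivedSeries_succ, ← hKK]; exact commutator_mono ih ih
  have hperfK : commutator K = ⊤ := by
    refine map_injective K.subtype_injective ?_
    rw [commutator_def, map_commutator, ← MonoidHom.range_eq_map, range_subtype, hKK]
  have hKtop : K.map π = ⊤ := by
    rw [hK, map_derivedSeries_eq hπs]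
    haveI : (derivedSeries (G ⧸ R) n).Normal := derivedSeries_normal _ n
    refine ((inferInstance : (derivedSeries (G ⧸ R) n).Normal).eq_bot_or_eq_top).resolve_left
      fun h0 => c.nonsolv ⟨⟨n, h0⟩⟩
  have hτs : ∀ q : G ⧸ R, ∃ k ∈ K, π k = q := fun q => by
    obtain ⟨k, hk, e⟩ := hKtop.ge (mem_top q)
    exact ⟨k, hk, e⟩
  have hKR : K ⊔ R = ⊤ := by
    rw [eq_top_iff]
    intro g _
    obtain ⟨k, hk, e'⟩ := hτs (π g)
    have : k⁻¹ * g ∈ R := (hπ1 _).mp (by rw [map_mul, map_inv, e', inv_mul_cancel])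
    simpa using mul_mem (mem_sup_left hk : k ∈ K ⊔ R) (mem_sup_right this)
  have hsol : ∀ {p : ℕ} (g : G), p.Prime → ∀ j, orderOf g = p ^ j → g ∉ R →
      R ≤ normalizer (zpowers g : Set G) := by
    intro p g hp j hg hgR
    exact (key h hR (isSolvable_zpowers g) (biprimary_zpowers (j := 0) (i := j) hp hp (by simp [hg]))
      fun hle => hgR (hle (mem_zpowers g))).1
  -- `[K, R] = 1`
  have hKL : ∀ p : ℕ, p.Prime → p ∣ Nat.card (G ⧸ R) → ∀ k ∈ K, ∀ ρ ∈ R,
      k * ρ * k⁻¹ * ρ⁻¹ ∈ (Cfsg.pCore p R).map R.subtype := by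
    intro p hp hpd
    haveI hchar := CfsgLib.Signalizer.pCore_characteristic (G := R) p
    set A := (Cfsg.pCore p R).map R.subtype with hA
    haveI hAn : A.Normal := CfsgLib.PSolvable.normal_map_of_characteristic R _
    set α := QuotientGroup.mk' A with hα
    haveI : (R.map α).Normal := Normal.map hRn α (QuotientGroup.mk'_surjective A)
    set L := (centralizer ((R.map α : Subgroup (G ⧸ A)) : Set (G ⧸ A))).comap α with hL
    have hmem : ∀ g, g ∈ L ↔ ∀ ρ ∈ R, g * ρ * g⁻¹ * ρ⁻¹ ∈ A := by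
      intro g
      rw [hL, mem_comap]
      constructor
      · intro hg ρ hρ
        refine (QuotientGroup.eq_one_iff _).mp ?_
        show α (g * ρ * g⁻¹ * ρ⁻¹) = 1
        rw [map_mul, map_mul, map_mul, map_inv, map_inv, ← hg _ (mem_map_of_mem α hρ)]
        group
      · rintro hg _ ⟨ρ, hρ, rfl⟩
        have h1 : α (g * ρ * g⁻¹ * ρ⁻¹) = 1 := (QuotientGroup.eq_one_iff _).mpr (hg ρ hρ)
        rw [map_mul, map_mul, map_mul, map_inv, map_inv, mul_inv_eq_one, mul_inv_eq_iff_eq_mul] at h1
        exact h1.symm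
    haveI hLn : L.Normal := by rw [hL]; infer_instance
    obtain ⟨x, j, hxo, hπx⟩ := exists_pElement π hπs hp hpd
    have hxR : x ∉ R := fun hx => by
      rw [(hπ1 x).mpr hx, orderOf_one] at hπx
      exact hp.ne_one hπx.symm
    have hxN := hsol x hp j hxo hxR
    have hxL : x ∈ L := by
      rw [hmem]
      intro ρ hρ
      have h1 : x * ρ * x⁻¹ * ρ⁻¹ ∈ zpowers x := by
        have h2 := conj_mem_of_norm (hxN hρ) (inv_mem (mem_zpowers x))
        have h3 := mul_mem (mem_zpowers x) h2
        simpa [mul_assoc] using h3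
      have h2 : x * ρ * x⁻¹ * ρ⁻¹ ∈ R := mul_mem (hRn.conj_mem ρ hρ x) (inv_mem hρ)
      -- `⟨x⟩ ∩ R` is a normal `p`-subgroup of `R`
      set Y := (zpowers x ⊓ R).subgroupOf R with hY
      have hYp : IsPGroup p Y :=
        ((isPGroup_zpowers hxo).to_le inf_le_left : IsPGroup p ↥(zpowers x ⊓ R)).comap_of_injective
          R.subtype R.subtype_injective
      have hYn : Y.Normal := ⟨fun y hy r => by
        rw [hY, mem_subgroupOf] at hy ⊢
        exact ⟨conj_mem_of_norm (hxN r.2) hy.1, (r * y * r⁻¹).2⟩⟩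
      refine ⟨⟨_, h2⟩, CfsgLib.Fitting.le_pCore hYn hYp ?_, rfl⟩
      rw [hY, mem_subgroupOf]
      exact ⟨h1, h2⟩
    have hLtop : L ⊔ R = ⊤ := by
      haveI : (L.map π).Normal := Normal.map hLn π hπs
      have h1 : L.map π = ⊤ := ((inferInstance : (L.map π).Normal).eq_bot_or_eq_top).resolve_left
        fun h0 => hxR ((hπ1 x).mp (mem_bot.mp (h0 ▸ mem_map_of_mem π hxL)))
      have h2 := congrArg (fun X : Subgroup (G ⧸ R) => X.comap π) h1
      simpa [comap_map_eq, hπker] using h2
    intro k hk ρ hρ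
    refine (hmem k).mp ?_ ρ hρ
    have hs : Group.IsSolvable (G ⧸ L) := by
      refine Group.isSolvable_of_surjective (f := (QuotientGroup.mk' L).comp R.subtype) ?_
      intro q
      obtain ⟨g, rfl⟩ := QuotientGroup.mk'_surjective L q
      have hg : g ∈ L ⊔ R := hLtop.symm ▸ mem_top g
      obtain ⟨l, hl, r, hr, rfl⟩ := mem_sup_of_normal_left.mp hg
      refine ⟨⟨r, hr⟩, ?_⟩
      rw [MonoidHom.comp_apply, map_mul,
        show QuotientGroup.mk' L l = 1 from (QuotientGroup.eq_one_iff l).mpr hl, one_mul]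
      rfl
    obtain ⟨⟨m, hm⟩⟩ := hs
    have h1 := map_derivedSeries_le_derivedSeries (QuotientGroup.mk' L) m
      (mem_map_of_mem _ (hstab m hk))
    rw [hm, mem_bot] at h1
    exact (QuotientGroup.eq_one_iff k).mp h1
  have hcomm : ∀ k ∈ K, ∀ ρ ∈ R, Commute k ρ := by
    intro k hk ρ hρ
    obtain ⟨u, hu, hu'⟩ := hKL 2 Nat.prime_two (by rw [hcardQ]; norm_num) k hk ρ hρ
    obtain ⟨v, hv, hv'⟩ := hKL 3 Nat.prime_three (by rw [hcardQ]; norm_num) k hk ρ hρ
    obtain ⟨i, hi⟩ := IsPGroup.iff_orderOf.mp (CfsgLib.Fitting.pCore_isPGroup 2 (G := R)) ⟨u, hu⟩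
    obtain ⟨j, hj⟩ := IsPGroup.iff_orderOf.mp (CfsgLib.Fitting.pCore_isPGroup 3 (G := R)) ⟨v, hv⟩
    replace hi : orderOf u = 2 ^ i := (orderOf_mk u hu).symm.trans hi
    replace hj : orderOf v = 3 ^ j := (orderOf_mk v hv).symm.trans hj
    have huv : u = v := R.subtype_injective (hu'.trans hv'.symm)
    rw [← huv] at hj
    have h1 : orderOf u = 1 := Nat.eq_one_of_dvd_coprimes
      (Nat.Coprime.pow i j (by norm_num : Nat.Coprime 2 3)) (dvd_of_eq hi) (dvd_of_eq hj)
    rw [orderOf_eq_one_iff.mp h1] at hu'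
    have h2 : k * ρ * k⁻¹ * ρ⁻¹ = 1 := hu'.symm.trans (map_one _)
    exact mul_inv_eq_iff_eq_mul.mp (mul_inv_eq_one.mp h2)
  -- `K` is a cover of the simple group
  let f : K →* P₁₃ := (e.toMonoidHom.comp π).comp K.subtype
  have hfs : Function.Surjective f := fun z => by
    obtain ⟨k, hk, e'⟩ := hτs (e.symm z)
    exact ⟨⟨k, hk⟩, by simp [f, e']⟩
  have hfk : ∀ k : K, f k = 1 ↔ (k : G) ∈ R := fun k => by
    rw [← hπ1]
    exact e.map_eq_one_iff
  have hfc : f.ker ≤ Subgroup.center K := fun k hk => mem_center_iff.mpr fun y =>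
    Subtype.ext (hcomm y y.2 k ((hfk k).mp hk)).eq
  have hcover := cover hperfK f hfs hfc
  have hKcard : Nat.card K ∣ 2184 := by
    rcases hcover with ⟨⟨φ⟩⟩ | ⟨⟨φ⟩⟩
    · rw [Nat.card_congr φ.toEquiv, card_P13]; norm_num
    · rw [Nat.card_congr φ.toEquiv, CfsgLib.Classical.card_SL_two, ZMod.card]; norm_num
  have hkercard : Nat.card f.ker ∣ 2 := by
    have h1 := card_mul_index f.ker
    rw [index_ker, MonoidHom.range_eq_top.mpr hfs, card_top, card_P13] at h1
    rw [← h1] at hKcard
    exact (Nat.mul_dvd_mul_iff_right (by norm_num : 0 < 1092)).mp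
      (show Nat.card f.ker * 1092 ∣ 2 * 1092 from hKcard)
  have hZ : ∀ z ∈ K, z ∈ R → orderOf z ∣ 2 := by
    intro z hzK hzR
    have h1 := orderOf_dvd_natCard (⟨⟨z, hzK⟩, (hfk _).mpr hzR⟩ : f.ker)
    rw [← orderOf_coe, ← orderOf_coe] at h1
    exact h1.trans hkercard
  -- an element of prime order in `K` outside `R`
  have hxK : ∀ s : ℕ, s.Prime → s ≠ 2 → s ∣ 1092 →
      ∃ x ∈ K, orderOf x = s ∧ orderOf (π x) = s := by
    intro s hs hs2 hsd
    obtain ⟨x, j, hxo, hfx⟩ := exists_pElement (G := K) f hfs hs (by rw [card_P13]; exact hsd)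
    have hpi : orderOf (π (x : G)) = s := by
      rw [← e.orderOf_eq]; exact hfx
    refine ⟨x, x.2, ?_, hpi⟩
    have hmem : (x : G) ^ s ∈ R := (hπ1 _).mp (by rw [map_pow, ← hpi, pow_orderOf_eq_one])
    have h1 : orderOf ((x : G) ^ s) ∣ 2 := hZ _ (pow_mem x.2 s) hmem
    have h2 : orderOf ((x : G) ^ s) ∣ s ^ j :=
      (orderOf_pow_dvd s).trans (dvd_of_eq ((orderOf_coe x).trans hxo))
    have h3 : orderOf ((x : G) ^ s) = 1 := Nat.eq_one_of_dvd_coprimes
      (Nat.Coprime.pow_right j ((Nat.coprime_primes Nat.prime_two hs).mpr (Ne.symm hs2))) h1 h2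
    have h4 : orderOf (x : G) ∣ s := orderOf_dvd_of_pow_eq_one (orderOf_eq_one_iff.mp h3)
    exact ((Nat.dvd_prime hs).mp h4).resolve_left fun h0 => by
      rw [orderOf_eq_one_iff.mp h0, map_one, orderOf_one] at hpi
      exact hs.ne_one hpi.symm
  -- `R` is Dedekind
  have hded : ∀ t ∈ R, ∀ r ∈ R, t * r * t⁻¹ ∈ zpowers r := by
    intro t ht r hr
    have hmem : r ∈ (zpowers r).comap (MulAut.conj t).toMonoidHom := by
      refine mem_of_parts fun y hy p j hp hyo => ?_
      show t * y * t⁻¹ ∈ zpowers r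
      obtain ⟨s, hs, hs2, hsd, hsp⟩ :
          ∃ s, Nat.Prime s ∧ s ≠ 2 ∧ s ∣ 1092 ∧ p ≠ s := by
        by_cases hp7 : p = 7
        · exact ⟨13, by norm_num, by norm_num, by norm_num, by omega⟩
        · exact ⟨7, by norm_num, by norm_num, by norm_num, hp7⟩
      obtain ⟨x, hx, hxo, hπx⟩ := hxK s hs hs2 hsd
      have hyR : y ∈ R := zpowers_le.mpr hr hy
      have hc : Commute x y := hcomm x hx y hyR
      have hcop : (orderOf x).Coprime (orderOf y) := by
        rw [hxo, hyo]
        exact Nat.Coprime.pow_right j ((Nat.coprime_primes hs hp).mpr (Ne.symm hsp))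
      have ho : orderOf (x * y) ∣ s ^ 1 * p ^ j := by
        rw [hc.orderOf_mul_eq_mul_orderOf_of_coprime hcop, hxo, hyo, pow_one]
      have hnot : x * y ∉ R := fun h0 => by
        have h1 : x ∈ R := by simpa using mul_mem h0 (inv_mem hyR)
        rw [(hπ1 x).mpr h1, orderOf_one] at hπx
        exact hs.ne_one hπx.symm
      have hN := (key h hR (isSolvable_zpowers (x * y)) (biprimary_zpowers hs hp ho)
        fun hle => hnot (hle (mem_zpowers _))).1 ht
      have hyxy : y ∈ zpowers (x * y) := by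
        rw [hc.eq]
        exact CentMaxNormal.mem_zpowers_mul hc.symm hcop.symm
      exact zpowers_le.mpr hy (conj_mem_of_norm (norm_zpowers_le_of_mem hyxy hN) (mem_zpowers y))
    exact hmem
  -- the prime power elements of `R` for the primes of `K` lie in `K`
  have hstep : ∀ p : ℕ, p.Prime → p ∣ 1092 → ∀ r ∈ R, ∀ j, orderOf r = p ^ j → r ^ p ∈ K →
      r ∈ K := by
    intro p hp hpd r hr j hro hrp
    by_contra hrK
    haveI := Fact.mk hp
    rcases eq_or_ne p 2 with rfl | hp2
    · -- `p = 2`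
      obtain ⟨Q⟩ := (inferInstance : Nonempty (Sylow 2 K))
      let τ : K →* G ⧸ R := π.comp K.subtype
      have hτ : Function.Surjective τ := fun q => by
        obtain ⟨k, hk, e'⟩ := hτs q
        exact ⟨⟨k, hk⟩, e'⟩
      set V : Sylow 2 (G ⧸ R) := Q.mapSurjective hτ with hVdef
      obtain ⟨-, g, hgN, hgfree⟩ := hV V (h4 V)
      have hV1 : (V : Subgroup (G ⧸ R)) ≠ ⊥ := fun h0 => by
        have := h4 V; rw [h0, card_bot] at this; omega
      obtain ⟨ι, hι, hι1⟩ := (Subgroup.bot_or_exists_ne_one (V : Subgroup (G ⧸ R))).resolve_left hV1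
      set κ := g * ι * g⁻¹ with hκ
      have hκV : κ ∈ (V : Subgroup (G ⧸ R)) := (mem_normalizer_iff.mp hgN ι).mp hι
      obtain ⟨i, hiQ, hiι⟩ : ∃ i ∈ (Q : Subgroup K), τ i = ι :=
        (show ι ∈ (Q : Subgroup K).map τ from hι)
      obtain ⟨l, hlQ, hlκ⟩ : ∃ l ∈ (Q : Subgroup K), τ l = κ :=
        (show κ ∈ (Q : Subgroup K).map τ from hκV)
      obtain ⟨y, hy, hyg⟩ := hτs g
      set Q' := (Q : Subgroup K).map K.subtype with hQ'
      have hnorm : zpowers r ≤ normalizer (Q' : Set G) := by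
        rw [zpowers_le, mem_normalizer_iff]
        intro w
        constructor
        · rintro ⟨q, hq, rfl⟩
          refine ⟨q, hq, ?_⟩
          show (q : G) = r * q * r⁻¹
          rw [← (hcomm _ q.2 r hr).eq, mul_inv_cancel_right]
        · rintro ⟨q, hq, e'⟩
          refine ⟨q, hq, ?_⟩
          show (q : G) = w
          calc (q : G) = r⁻¹ * ((q : G) * r) := by rw [(hcomm _ q.2 r hr).eq, inv_mul_cancel_left]
            _ = r⁻¹ * (r * w * r⁻¹ * r) := by rw [← (show (q : G) = r * w * r⁻¹ from e')]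
            _ = w := by group
      have hT : IsPGroup 2 ↥(zpowers r ⊔ Q') :=
        IsPGroup.to_sup_of_normal_right' (isPGroup_zpowers hro) (Q.2.map K.subtype) hnorm
      set H := closure ({(i : G), (l : G) * r} : Set G) with hH
      have hHle : H ≤ zpowers r ⊔ Q' := by
        rw [hH, closure_le]
        rintro w (rfl | rfl)
        · exact mem_sup_right ⟨i, hiQ, rfl⟩
        · exact mul_mem (mem_sup_right ⟨l, hlQ, rfl⟩) (mem_sup_left (mem_zpowers r))
      have hH2 : IsPGroup 2 H := hT.to_le hHle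
      have hπr : π r = 1 := (hπ1 r).mpr hr
      have hπi : π (i : G) = ι := hiι
      have hπl : π ((l : G) * r) = κ := by rw [map_mul, hπr, mul_one]; exact hlκ
      have hnle : ¬ H ≤ R := fun hle => hι1 (by
        rw [← hπi]; exact (hπ1 _).mpr (hle (subset_closure (Set.mem_insert _ _))))
      have hmapH : H.map π = (V : Subgroup (G ⧸ R)) := by
        rw [hH, MonoidHom.map_closure, Set.image_pair, hπi, hπl]
        refine eq_of_le_of_card_ge ?_ ?_
        · rw [closure_le]
          rintro w (rfl | rfl)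
          exacts [hι, hκV]
        · rw [h4 V]
          set W := closure ({ι, κ} : Set (G ⧸ R))
          have hιW : ι ∈ W := subset_closure (Set.mem_insert _ _)
          have hκW : κ ∈ W := subset_closure (Set.mem_insert_of_mem _ rfl)
          have hWd : Nat.card W ∣ 4 := h4 V ▸ card_dvd_of_le (by
            rw [closure_le]; rintro w (rfl | rfl); exacts [hι, hκV])
          have h3 : 2 < Nat.card W := by
            let φ : Fin 3 → W := ![1, ⟨ι, hιW⟩, ⟨κ, hκW⟩]
            refine lt_of_lt_of_le (by norm_num : 2 < Nat.card (Fin 3))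
              (Nat.card_le_card_of_injective φ ?_)
            have hκ1 : κ ≠ 1 := fun h0 => hι1 (conj_eq_one_iff.mp h0)
            have hκι : κ ≠ ι := hgfree ι hι hι1
            intro p q hpq
            have hpq' := congrArg Subtype.val hpq
            fin_cases p <;> fin_cases q <;>
              simp [φ, hι1, hι1.symm, hκ1, hκ1.symm, hκι, hκι.symm] at hpq' ⊢
          have := Nat.le_of_dvd (by norm_num) hWd
          interval_cases h0 : Nat.card W <;> omega
      obtain ⟨-, heq⟩ := key h hR (isSolvable_pGroup hH2) (biprimary_pGroup hH2) hnle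
      have hyN : y ∈ normalizer (H : Set G) := by
        rw [heq, mem_comap, hmapH]
        exact hyg ▸ hgN
      have hw : y * (i : G) * y⁻¹ ∈ H :=
        (mem_normalizer_iff.mp hyN _).mp (subset_closure (Set.mem_insert _ _))
      set ψ := QuotientGroup.mk' K with hψ
      have hVc : ∀ a ∈ (V : Subgroup (G ⧸ R)), ∀ b ∈ (V : Subgroup (G ⧸ R)), Commute a b := by
        intro a ha b hb
        haveI : IsMulCommutative (V : Subgroup (G ⧸ R)) :=
          IsPGroup.isMulCommutative_of_card_eq_prime_sq (p := 2) (by rw [h4 V]; rfl)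
        exact congrArg Subtype.val (IsMulCommutative.is_comm.comm
          (⟨a, ha⟩ : (V : Subgroup (G ⧸ R))) ⟨b, hb⟩)
      have hpred : ∀ w ∈ H, ∃ m k : ℤ, π w = ι ^ m * κ ^ k ∧ ψ w = ψ r ^ k := by
        intro w hw
        induction hw using closure_induction with
        | mem w hw =>
          rcases hw with rfl | rfl
          · exact ⟨1, 0, by simp [hπi], by
              rw [zpow_zero]; exact (QuotientGroup.eq_one_iff _).mpr i.2⟩
          · refine ⟨0, 1, by simp [hπl], ?_⟩
            rw [zpow_one, map_mul, show ψ (l : G) = 1 from (QuotientGroup.eq_one_iff _).mpr l.2,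
              one_mul]
        | one => exact ⟨0, 0, by simp, by simp⟩
        | mul w w' _ _ ih ih' =>
          obtain ⟨m, k, e1, e2⟩ := ih
          obtain ⟨m', k', e1', e2'⟩ := ih'
          refine ⟨m + m', k + k', ?_, by rw [map_mul, e2, e2', zpow_add]⟩
          rw [map_mul, e1, e1', zpow_add, zpow_add, mul_assoc, mul_assoc]
          congr 1
          rw [← mul_assoc, ← mul_assoc, ((hVc ι hι κ hκV).zpow_zpow m' k).eq]
        | inv w _ ih =>
          obtain ⟨m, k, e1, e2⟩ := ih
          refine ⟨-m, -k, ?_, by rw [map_inv, e2, zpow_neg]⟩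
          rw [map_inv, e1, mul_inv_rev, zpow_neg, zpow_neg,
            (((hVc ι hι κ hκV).zpow_zpow m k).inv_inv).eq]
      obtain ⟨m, k, e1, e2⟩ := hpred _ hw
      have hψw : ψ (y * (i : G) * y⁻¹) = 1 :=
        (QuotientGroup.eq_one_iff _).mpr (hKn.conj_mem _ i.2 y)
      rw [hψw] at e2
      have hror : orderOf (ψ r) = 2 := orderOf_eq_prime
        (by rw [← map_pow]; exact (QuotientGroup.eq_one_iff _).mpr hrp)
        (fun h0 => hrK ((QuotientGroup.eq_one_iff r).mp h0))
      have hk2 : (2 : ℤ) ∣ k := by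
        have := orderOf_dvd_iff_zpow_eq_one.mpr e2.symm
        rwa [hror] at this
      obtain ⟨k', rfl⟩ := hk2
      have hsq : ∀ a ∈ (V : Subgroup (G ⧸ R)), a * a = 1 := (sylow_facts c V).2.1
      rw [zpow_mul, zpow_two, hsq κ hκV, one_zpow, mul_one, map_mul, map_mul, map_inv, hπi, hyg,
        ← hκ] at e1
      rcases Int.even_or_odd m with ⟨m', rfl⟩ | ⟨m', rfl⟩
      · rw [← two_mul, zpow_mul, zpow_two, hsq ι hι, one_zpow] at e1
        exact hι1 (conj_eq_one_iff.mp e1)
      · rw [zpow_add, zpow_mul, zpow_two, hsq ι hι, one_zpow, one_mul, zpow_one] at e1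
        exact hgfree ι hι hι1 e1
    · -- `p` odd
      obtain ⟨u, hu, huo, hπu⟩ := hxK p hp hp2 hpd
      have hrp1 : r ^ p = 1 := by
        have h1 : orderOf (r ^ p) ∣ 2 := hZ _ hrp (pow_mem hr p)
        have h2 : orderOf (r ^ p) ∣ p ^ j := (orderOf_pow_dvd p).trans (dvd_of_eq hro)
        exact orderOf_eq_one_iff.mp (Nat.eq_one_of_dvd_coprimes
          (Nat.Coprime.pow_right j ((Nat.coprime_primes Nat.prime_two hp).mpr (Ne.symm hp2))) h1 h2)
      have hr1 : r ≠ 1 := fun h0 => hrK (h0 ▸ one_mem K)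
      have hro' : orderOf r = p := orderOf_eq_prime hrp1 hr1
      -- an element normalising `⟨ū⟩` without centralising it
      obtain ⟨q, hqN, hqC⟩ : ∃ q ∈ normalizer (zpowers (π u) : Set (G ⧸ R)),
          ¬ Commute q (π u) := by
        by_contra hcon
        push Not at hcon
        have hp4 : p = 3 ∨ p = 7 ∨ p = 13 := by
          have h1 := Nat.mem_primeFactors.mpr ⟨hp, hpd, by norm_num⟩
          have h2 : (1092 : ℕ) = 4 * 273 := by norm_num
          rcases hp.dvd_mul.mp (h2 ▸ hpd) with h3 | h3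
          · exact absurd ((Nat.prime_dvd_prime_iff_eq hp Nat.prime_two).mp
              (hp.dvd_of_dvd_pow (show p ∣ 2 ^ 2 from h3))) hp2
          · rcases hp.dvd_mul.mp (show p ∣ 3 * 91 from h3) with h4 | h4
            · exact Or.inl ((Nat.prime_dvd_prime_iff_eq hp Nat.prime_three).mp h4)
            · rcases hp.dvd_mul.mp (show p ∣ 7 * 13 from h4) with h5 | h5
              · exact Or.inr (Or.inl ((Nat.prime_dvd_prime_iff_eq hp (by norm_num)).mp h5))
              · exact Or.inr (Or.inr ((Nat.prime_dvd_prime_iff_eq hp (by norm_num)).mp h5))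
        have hcardp : Nat.card (zpowers (π u)) = p := by rw [Nat.card_zpowers, hπu]
        have hindex : ¬ p ∣ (zpowers (π u)).index := by
          have h1 := card_mul_index (zpowers (π u))
          rw [hcardp, hcardQ] at h1
          rintro ⟨d, hd⟩
          rw [hd] at h1
          rcases hp4 with rfl | rfl | rfl <;> omega
        set T : Sylow p (G ⧸ R) := (IsPGroup.of_card (n := 1) (by rw [hcardp, pow_one]) :
          IsPGroup p (zpowers (π u))).toSylow hindex with hT
        have hTc : normalizer ((T : Subgroup (G ⧸ R)) : Set (G ⧸ R)) ≤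
            centralizer ((T : Subgroup (G ⧸ R)) : Set (G ⧸ R)) := by
          intro w hw v hv
          obtain ⟨m, rfl⟩ := mem_zpowers_iff.mp (show v ∈ zpowers (π u) from hv)
          exact ((hcon w hw).zpow_right m).eq.symm
        have hc' := MonoidHom.ker_transferSylow_isComplement' T hTc
        have hm := hc'.card_mul_card
        rw [show Nat.card (T : Subgroup (G ⧸ R)) = p from hcardp, hcardQ] at hm
        rcases (inferInstance : ((MonoidHom.transferSylow T hTc).ker).Normal).eq_bot_or_eq_top with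
          h' | h'
        · rw [h', card_bot] at hm; omega
        · rw [h', card_top, hcardQ] at hm; omega
      obtain ⟨t, htK, htq⟩ := hτs q
      have hcur : Commute u r := hcomm u hu r hr
      have ho : orderOf (u * r) ∣ p ^ 1 * p ^ 0 := by
        rw [pow_one, pow_zero, mul_one]
        refine orderOf_dvd_of_pow_eq_one ?_
        rw [hcur.mul_pow, hrp1, ← huo, pow_orderOf_eq_one, one_mul]
      have hπr : π r = 1 := (hπ1 r).mpr hr
      have hnle : ¬ zpowers (u * r) ≤ R := fun hle => by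
        have := (hπ1 _).mpr (hle (mem_zpowers (u * r)))
        rw [map_mul, hπr, mul_one] at this
        rw [this, orderOf_one] at hπu
        exact hp.ne_one hπu.symm
      obtain ⟨-, heq⟩ := key h hR (isSolvable_zpowers _) (biprimary_zpowers hp hp ho) hnle
      have htN : t ∈ normalizer (zpowers (u * r) : Set G) := by
        rw [heq, mem_comap, MonoidHom.map_zpowers, map_mul, ← hπ, hπr, mul_one, htq]
        exact hqN
      obtain ⟨m, hm⟩ := mem_zpowers_iff.mp (conj_mem_of_norm htN (mem_zpowers _))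
      have htr : t * r * t⁻¹ = r := by rw [(hcomm t htK r hr).eq, mul_inv_cancel_right]
      rw [← conj_mul, htr, hcur.mul_zpow] at hm
      have hr' : r ^ (m - 1) = (u ^ m)⁻¹ * (t * u * t⁻¹) := by
        rw [zpow_sub_one, eq_inv_mul_iff_mul_eq, ← mul_assoc, hm, mul_inv_cancel_right]
      have hmemK : r ^ (m - 1) ∈ K :=
        hr' ▸ mul_mem (inv_mem (zpow_mem hu m)) (hKn.conj_mem u hu t)
      have h2 := hZ _ hmemK (zpow_mem hr _)
      have h3 : orderOf (r ^ (m - 1)) ∣ p := hro' ▸ orderOf_zpow_dvd r _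
      have h4' : r ^ (m - 1) = 1 := orderOf_eq_one_iff.mp (Nat.eq_one_of_dvd_coprimes
        ((Nat.coprime_primes Nat.prime_two hp).mpr (Ne.symm hp2)) h2 h3)
      have h5 : (p : ℤ) ∣ m - 1 := hro' ▸ orderOf_dvd_iff_zpow_eq_one.mpr h4'
      have h6 : π u ^ (m - 1) = 1 := orderOf_dvd_iff_zpow_eq_one.mp (hπu.symm ▸ h5)
      have h7 := congrArg π hm
      rw [map_mul, map_mul, map_zpow, map_zpow, hπr, one_zpow, mul_one, mul_one, map_mul, map_mul,
        map_inv, htq] at h7
      rw [zpow_sub_one, mul_inv_eq_one] at h6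
      exact hqC (mul_inv_eq_iff_eq_mul.mp (h7.symm.trans h6))
  have hpow : ∀ p : ℕ, p.Prime → p ∣ 1092 → ∀ j : ℕ, ∀ r ∈ R, orderOf r = p ^ j → r ∈ K := by
    intro p hp hpd j
    induction j with
    | zero =>
      intro r _ hro
      rw [pow_zero, orderOf_eq_one_iff] at hro
      exact hro ▸ one_mem K
    | succ j ih =>
      intro r hr hro
      refine hstep p hp hpd r hr _ hro (ih _ (pow_mem hr p) ?_)
      rw [orderOf_pow' r hp.ne_zero, hro, Nat.gcd_eq_right (dvd_pow_self p j.succ_ne_zero), pow_succ,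
        Nat.mul_div_cancel _ hp.pos]
  -- the odd part of the radical
  have hmulodd : ∀ a b : G, a ∈ R → b ∈ R → Odd (orderOf a) → Odd (orderOf b) →
      Odd (orderOf (a * b)) := by
    intro a b ha hb hoa hob
    have hnorm : zpowers a ≤ normalizer (zpowers b : Set G) :=
      zpowers_le.mpr (mem_norm_zpowers (hded a ha b hb))
    have hmem : a * b ∈ zpowers a ⊔ zpowers b :=
      mul_mem (mem_sup_left (mem_zpowers a)) (mem_sup_right (mem_zpowers b))
    haveI : ((zpowers b).subgroupOf (zpowers a ⊔ zpowers b)).Normal :=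
      (normal_subgroupOf_iff_le_normalizer le_sup_right).mpr (sup_le hnorm le_normalizer)
    have h1 := CfsgLib.SelfCent.card_sup_dvd_mul
      ((zpowers a).subgroupOf (zpowers a ⊔ zpowers b)) ((zpowers b).subgroupOf (zpowers a ⊔ zpowers b))
    rw [← subgroupOf_sup le_sup_left le_sup_right, subgroupOf_self, card_top,
      Nat.card_congr (subgroupOfEquivOfLe (le_sup_left : zpowers a ≤ zpowers a ⊔ zpowers b)).toEquiv,
      Nat.card_congr (subgroupOfEquivOfLe (le_sup_right : zpowers b ≤ zpowers a ⊔ zpowers b)).toEquiv,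
      Nat.card_zpowers, Nat.card_zpowers] at h1
    refine Odd.of_dvd_nat (hoa.mul hob) (dvd_trans ?_ h1)
    rw [← orderOf_mk (a * b) hmem]
    exact orderOf_dvd_natCard _
  let S : Subgroup G :=
    { carrier := {g | g ∈ R ∧ Odd (orderOf g)}
      one_mem' := ⟨one_mem R, by simp⟩
      mul_mem' := fun {a b} ha hb => ⟨mul_mem ha.1 hb.1, hmulodd a b ha.1 hb.1 ha.2 hb.2⟩
      inv_mem' := fun {a} ha => ⟨inv_mem ha.1, by rw [orderOf_inv]; exact ha.2⟩ }
  have hSn : S.Normal := ⟨fun s hs g => ⟨hRn.conj_mem s hs.1 g, by rw [orderOf_conj]; exact hs.2⟩⟩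
  have hKS : K ⊓ S = ⊥ := by
    rw [eq_bot_iff]
    rintro z ⟨hzK, hzR, hzo⟩
    rcases (Nat.dvd_prime Nat.prime_two).mp (hZ z hzK hzR) with h1 | h1
    · exact mem_bot.mpr (orderOf_eq_one_iff.mp h1)
    · rw [h1] at hzo; exact absurd hzo (by decide)
  refine ⟨K, S, hKn, hSn, hKS, ?_, hcover, ?_, ?_⟩
  · rw [eq_top_iff, ← hKR, sup_le_iff]
    refine ⟨le_sup_left, fun r hr => mem_of_parts fun y hy p j hp hyo => ?_⟩
    have hyR : y ∈ R := zpowers_le.mpr hr hy
    rcases eq_or_ne p 2 with rfl | hp2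
    · exact mem_sup_left (hpow 2 hp (by norm_num) j y hyR hyo)
    · exact mem_sup_right ⟨hyR, hyo ▸ (hp.odd_of_ne_two hp2).pow⟩
  · have hSodd : Odd (Nat.card S) := by
      rw [← Nat.not_even_iff_odd, even_iff_two_dvd]
      intro hd
      obtain ⟨z, hz⟩ := exists_prime_orderOf_dvd_card' (G := S) 2 hd
      rw [← orderOf_coe] at hz
      exact absurd (hz ▸ z.2.2) (by decide)
    refine hamiltonian_odd hSodd fun L => ⟨fun l hl s => ?_⟩
    obtain ⟨m, hm⟩ := mem_zpowers_iff.mp (hded _ s.2.1 _ l.2.1)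
    have : s * l * s⁻¹ = l ^ m := Subtype.ext (by push_cast; exact hm.symm)
    exact this ▸ zpow_mem hl m
  · refine Nat.coprime_of_dvd fun p hp hpK hpS => ?_
    haveI := Fact.mk hp
    have hp' : p ∣ 1092 := by
      rcases hp.dvd_mul.mp (show p ∣ 2 * 1092 from hpK.trans hKcard) with h1 | h1
      · exact h1.trans (by norm_num)
      · exact h1
    obtain ⟨z, hz⟩ := exists_prime_orderOf_dvd_card' (G := S) p hpS
    rw [← orderOf_coe] at hz
    have hzK := hpow p hp hp' 1 z z.2.1 (by rw [hz, pow_one])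
    have h1 : (z : G) ∈ K ⊓ S := ⟨hzK, z.2⟩
    rw [hKS, mem_bot] at h1
    rw [h1, orderOf_one] at hz
    exact hp.ne_one hz.symm

end CfsgLib.MaxNormalizer
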